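import Cfsg.Agent.HZ.L.E7.Defs
import Cfsg.Agent.LV.Lab.Good
import Cfsg.Agent.DL.Ex.Fin

/-!
# HZ/L/E7: the lattice `E₈` and its Weyl group, without a datum (helper5)

`ac`, `dom`, `lex`, `small`, `stein` (Steinberg), `rt_list`, `prim1`, `prim2`.
-/

set_option autoImplicit false
set_option linter.unusedSectionVars false
set_option maxHeartbeats 400000

namespace Cfsg.Agent.HZ.L.E7

open Cfsg Cfsg.Lie Cfsg.Agent.DL Cfsg.Agent.DL.PP Cfsg.Agent.Tits.Roots Cfsg.Agent.ChevalleyStructure.CoxeterGeom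
  Cfsg.Agent.ChevalleyStructure.CoxeterGeomTypes Cfsg.Agent.KZ.DatX Cfsg.Agent.LV.Lab Cfsg.Agent.Nodes Matrix

theorem C8_symm : C8ᵀ = C8 := by decide +kernel

theorem bf_comm (x y : V) : bf x y = bf y x := by rw [bf, bf, dotProduct_mulVec, ← mulVec_transpose, C8_symm, dotProduct_comm]

theorem bf_add_left (x y z : V) : bf (x + y) z = bf x z + bf y z := add_dotProduct _ _ _

theorem bf_sub_left (x y z : V) : bf (x - y) z = bf x z - bf y z := sub_dotProduct _ _ _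

theorem bf_neg_left (x z : V) : bf (-x) z = -bf x z := neg_dotProduct _ _

theorem bf_smul_left (n : ℤ) (x z : V) : bf (n • x) z = n * bf x z := smul_dotProduct _ _ _

theorem bf_zero_left (z : V) : bf 0 z = 0 := zero_dotProduct _

theorem bf_add_right (x y z : V) : bf z (x + y) = bf z x + bf z y := by rw [bf_comm, bf_add_left, bf_comm x, bf_comm y]

theorem bf_sub_right (x y z : V) : bf z (x - y) = bf z x - bf z y := by rw [bf_comm, bf_sub_left, bf_comm x, bf_comm y]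

theorem bf_neg_right (x z : V) : bf z (-x) = -bf z x := by rw [bf_comm, bf_neg_left, bf_comm x]

theorem bf_smul_right (n : ℤ) (x z : V) : bf z (n • x) = n * bf z x := by rw [bf_comm, bf_smul_left, bf_comm x]

theorem bf_zero_right (z : V) : bf z 0 = 0 := by rw [bf_comm, bf_zero_left]

theorem bf_sr (i : Fin 8) (x : V) : bf (sr i) x = (C8 *ᵥ x) i := (single_dotProduct _ 1 i).trans (one_mul _)

theorem bf_sum (x y : V) : bf x y = ∑ i, x i * bf y (sr i) := by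
  simp only [bf_comm y, bf_sr]
  rfl

theorem Rt.neg {a : V} (h : Rt a) : Rt (-a) := by rwa [Rt, bf_neg_left, bf_neg_right, neg_neg]

/-- the inverse of the Cartan matrix -/
def Ci : Matrix (Fin 8) (Fin 8) ℤ :=
  !![4, 5, 7, 10, 8, 6, 4, 2; 5, 8, 10, 15, 12, 9, 6, 3; 7, 10, 14, 20, 16, 12, 8, 4; 10, 15, 20, 30, 24, 18, 12, 6;
    8, 12, 16, 24, 20, 15, 10, 5; 6, 9, 12, 18, 15, 12, 8, 4; 4, 6, 8, 12, 10, 8, 6, 3; 2, 3, 4, 6, 5, 4, 3, 2]

theorem C8_Ci : C8 * Ci = 1 := by decide +kernel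

theorem Ci_C8 : Ci * C8 = 1 := by decide +kernel

/-- the lattice is unimodular -/
theorem exists_dual (l : V) : ∃ v, ∀ a, bf a v = a ⬝ᵥ l := ⟨Ci *ᵥ l, fun a => by rw [bf, mulVec_mulVec, C8_Ci, one_mulVec]⟩

theorem exists_dvd {n : ℤ} {x : V} (h : ∀ v, n ∣ bf x v) : ∃ y, x = n • y := by
  choose y hy using fun i => h (Ci *ᵥ Pi.single i 1)
  refine ⟨y, funext fun i => ?_⟩
  have := hy i
  rwa [bf, mulVec_mulVec, C8_Ci, one_mulVec, dotProduct_single, mul_one] at this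

theorem eq_zero_of_sr {x : V} (h : ∀ i, bf x (sr i) = 0) : x = 0 := by
  obtain ⟨y, e⟩ := exists_dvd (n := 0) (x := x) fun v => by simp only [bf_comm x v, bf_sum v x, h, mul_zero, Finset.sum_const_zero, dvd_refl]
  rw [e, zero_smul]

/-- the highest root -/
def th : V := ![2, 3, 4, 6, 5, 4, 3, 2]

theorem bf_th (x : V) : bf x th = x 7 := by
  rw [bf, show C8 *ᵥ th = Pi.single 7 1 by decide +kernel, dotProduct_single, mul_one]

theorem rt_th : Rt th := bf_th th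

/-- the Weyl group -/
abbrev W8 : Type := CoxeterMatrix.E₈.Group

/-- its action -/
noncomputable def ac (w : W8) : V →ₗ[ℤ] V := rep CoxeterMatrix.E₈.toCoxeterSystem hpE8.isCartan w

theorem ac_mul (v w : W8) (x : V) : ac (v * w) x = ac v (ac w x) := rep_mul_apply _ _ v w x

theorem ac_one (x : V) : ac 1 x = x := by rw [ac, map_one, Module.End.one_apply]

theorem ac_inv (w : W8) (x : V) : ac w⁻¹ (ac w x) = x := by rw [← ac_mul, inv_mul_cancel, ac_one]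

theorem ac_inv' (w : W8) (x : V) : ac w (ac w⁻¹ x) = x := by rw [← ac_mul, mul_inv_cancel, ac_one]

theorem car' : ∀ i j : Fin 8, cartanOf chevE8 8 i j = bf (sr j) (sr i) := by decide +kernel

theorem car (i : Fin 8) : cartanOf chevE8 8 i = C8 *ᵥ sr i := funext fun j => (car' i j).trans (bf_sr j _)

theorem ac_simple (i : Fin 8) (x : V) : ac (CoxeterMatrix.E₈.toCoxeterSystem.simple i) x = x - bf (sr i) x • sr i := by
  rw [ac, rep_simple_eq, pairing, car, bf_comm, bf, dotProduct_comm]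
  rfl

theorem rt_sr : ∀ i : Fin 8, Rt (sr i) := by unfold Rt; decide +kernel

theorem bf_rf {a : V} (ha : Rt a) (x y : V) : bf (x - bf a x • a) (y - bf a y • a) = bf x y := by
  simp only [bf_sub_left, bf_sub_right, bf_smul_left, bf_smul_right, show bf a a = 2 from ha, bf_comm x a]
  ring

theorem bf_ac (w : W8) (x y : V) : bf (ac w x) (ac w y) = bf x y := by
  induction w using CoxeterMatrix.E₈.toCoxeterSystem.simple_induction_left with
  | one => rw [ac_one, ac_one]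
  | mul_simple_left w i h => rw [ac_mul, ac_mul, ac_simple, ac_simple, bf_rf (rt_sr i), h]

theorem bf_ac' (w : W8) (x y : V) : bf (ac w x) y = bf x (ac w⁻¹ y) := by rw [← bf_ac w x, ac_inv']

theorem Rt.ac {a : V} (h : Rt a) (w : W8) : Rt (ac w a) := (bf_ac w a a).trans h

theorem exists_X : ∃ (p : ℕ) (_ : Fact p.Prime) (k : Type) (_ : Field k) (_ : CharP k p) (_ : IsAlgClosed k)
    (Mx : Matrix (Fin 8) (Fin 8) ℤ), Nonempty (XF hpE8 p k Mx) := by
  have : Fact (Nat.Prime 2) := ⟨Nat.prime_two⟩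
  obtain ⟨p, e, _, _, _, he, -, hk⟩ := DL.Ex.exists_closure (ZMod 2)
  exact ⟨p, inferInstance, _, inferInstance, inferInstance, inferInstance, _, ⟨xfS hpE8 p hk he⟩⟩

/-- dominant conjugates -/
theorem dom (x : V) : ∃ w, ∀ i, 0 ≤ bf (ac w x) (sr i) := by
  obtain ⟨p, _, k, _, _, _, Mx, ⟨X⟩⟩ := exists_X
  obtain ⟨v, hv⟩ := CF.exists_dominant X.D (AddMonoidHom.mk' (bf x) fun a b => bf_add_right a b x)
  have h : ∀ (v : W8) i, bf x (ac v (sr i)) = bf (ac v⁻¹ x) (sr i) := fun v i => by rw [bf_ac', inv_inv]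
  exact ⟨_, fun i => (hv i).trans_eq (h v i)⟩

theorem eq_th {a : V} (ha : Rt a) (h : ∀ i, 0 ≤ bf a (sr i)) : a = th := by
  have h1 : a = Ci *ᵥ fun i => bf a (sr i) := by
    rw [show (fun i => bf a (sr i)) = C8 *ᵥ a from funext fun i => by rw [bf_comm, bf_sr], mulVec_mulVec, Ci_C8, one_mulVec]
  rw [Rt, bf_sum] at ha
  generalize (fun i => bf a (sr i)) = c at h1
  have h2 : ∀ i, bf a (sr i) = c i := fun i => by
    rw [bf_comm, bf_sr, h1, mulVec_mulVec, C8_Ci, one_mulVec]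
  simp only [h2] at h ha
  have h3 : ∀ i j : Fin 8, (0 : ℤ) ≤ Ci i j := by
    intro i j
    fin_cases i <;> fin_cases j <;> decide
  have h4 : ∀ i, Ci i i * c i ≤ a i := fun i => by
    rw [h1]
    exact Finset.single_le_sum (f := fun j => Ci i j * c j) (fun j _ => mul_nonneg (h3 i j) (h j)) (Finset.mem_univ i)
  have h5 : ∀ i, a i * c i ≤ 2 := fun i => ha ▸ Finset.single_le_sum (f := fun j => a j * c j)
    (fun j _ => mul_nonneg ((mul_nonneg (h3 j j) (h j)).trans (h4 j)) (h j)) (Finset.mem_univ i)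
  have h6 : ∀ i, i ≠ 7 → c i = 0 := fun i hi => by
    have h7 : ∀ i, i ≠ 7 → 4 ≤ Ci i i := by decide +kernel
    have := h7 i hi
    have := h4 i
    have := h5 i
    refine (h i).eq_or_lt.elim Eq.symm fun e => ?_
    have h8 : 4 ≤ a i := by nlinarith
    nlinarith
  have h7 : c = Pi.single 7 (c 7) := funext fun i => by
    by_cases e : i = 7
    · rw [e, Pi.single_eq_same]
    · rw [Pi.single_eq_of_ne e, h6 i e]
  have h8 : a = c 7 • th := by
    rw [h1, h7, mulVec_single, Pi.single_eq_same, op_smul_eq_smul]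
    congr 1
    decide +kernel
  rw [Finset.sum_eq_single 7 (fun i _ e => by rw [h6 i e, mul_zero]) fun e => absurd (Finset.mem_univ _) e] at ha
  have h9 : a 7 = c 7 * 2 := congrFun h8 7
  have h10 : c 7 = 1 := by
    have := h 7
    nlinarith
  rw [h8, h10, one_smul]

theorem exists_th {a : V} (ha : Rt a) : ∃ w, ac w a = th := (dom a).imp fun w h => eq_th (ha.ac w) h

theorem rt_iff {a : V} : Rt a ↔ IsRoot CoxeterMatrix.E₈.toCoxeterSystem hpE8.isCartan a := by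
  refine ⟨fun h => ?_, by rintro ⟨w, i, rfl⟩; exact (rt_sr i).ac w⟩
  obtain ⟨w, e⟩ := exists_th h
  obtain ⟨v, e'⟩ := exists_th (rt_sr 0)
  exact ⟨w⁻¹ * v, 0, (ac_inv w a).symm.trans (by rw [e, ← e', ← ac_mul]; rfl)⟩

theorem Rt.sign {a : V} (h : Rt a) : 0 ≤ a ∨ a ≤ 0 := (rt_iff.1 h).pos_or_neg

theorem list_chk : ∀ r < chevE8.nroots, ∃ x ∈ L8, RGDChev.vec chevE8 8 r = dg 8 x ∨ -RGDChev.vec chevE8 8 r = dg 8 x := by
  decide +kernel

/-- the list of the roots -/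
theorem rt_list {a : V} (h : Rt a) : ∃ x ∈ L8, a = dg 8 x ∨ -a = dg 8 x := by
  obtain ⟨p, _, k, _, _, _, Mx, ⟨X⟩⟩ := exists_X
  obtain ⟨r, hr, rfl⟩ := (X.rt_iff a).1 (rt_iff.1 h)
  exact list_chk r hr

theorem rt_dg : ∀ x ∈ L8, Rt (dg 8 x) := by unfold Rt; decide +kernel

theorem Rt.pos {a : V} (h : Rt a) (h0 : 0 ≤ a) : ∃ x ∈ L8, a = dg 8 x := by
  obtain ⟨x, hx, e | e⟩ := rt_list h
  · exact ⟨x, hx, e⟩
  · exact absurd (neg_nonneg.1 (e ▸ fun _ => Int.natCast_nonneg _)) ((rt_iff.1 h).not_pos_neg h0)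

section X

variable {p : ℕ} [Fact p.Prime] {k : Type} [Field k] [CharP k p] [IsAlgClosed k] {Mx : Matrix (Fin 8) (Fin 8) ℤ}
  (X : XF hpE8 p k Mx)

theorem Wm_C8 (w : W8) (x : V) : (X.D.Wm w : Matrix (Fin 8) (Fin 8) ℤ) *ᵥ (C8 *ᵥ x) = C8 *ᵥ ac w x := by
  induction w using CoxeterMatrix.E₈.toCoxeterSystem.simple_induction_left with
  | one => exact (congrArg (· *ᵥ (C8 *ᵥ x)) X.D.Wm_one).trans (by rw [ac_one]; exact one_mulVec _)
  | mul_simple_left w i h =>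
    refine (congrArg (· *ᵥ (C8 *ᵥ x)) ((X.D.Wm_mul _ w).trans (congrArg (· * _) (X.Wm_simple i)))).trans ?_
    refine (mulVec_mulVec _ _ _).symm.trans ((congrArg (sM chevE8 8 i *ᵥ ·) h).trans ?_)
    rw [ac_mul, ac_simple, sM_mulVec, mulVec_sub, mulVec_smul, bf_sr, car]
    rfl

theorem cor_eq {a : V} (h : Rt a) : (X.D.cor a : V) = C8 *ᵥ a := by
  obtain ⟨w, i, rfl⟩ := rt_iff.1 h
  exact (X.D.cor_act_sr w i).trans (Eq.trans (congrArg _ (car i)) (Wm_C8 X w (sr i)))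

theorem ac_rf {a : V} (h : Rt a) (x : V) : ac (X.D.rf a) x = x - bf a x • a := by
  refine (X.D.act_rf (rt_iff.1 h) x).trans ?_
  have e : (Coroot.cpr X.D.cs X.D.h x a : ℤ) = bf a x :=
    (wt_dot_cor X.D x (rt_iff.1 h)).symm.trans ((congrArg (fun y : V => x ⬝ᵥ y) (cor_eq X h)).trans (bf_comm x a))
  exact congrArg (fun n : ℤ => x - n • a) e

end X

theorem exists_rf {a : V} (h : Rt a) : ∃ w, ∀ x, ac w x = x - bf a x • a := by
  obtain ⟨p, _, k, _, _, _, Mx, ⟨X⟩⟩ := exists_X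
  exact ⟨_, ac_rf X h⟩

theorem small (η : V) {n : ℤ} (hn : 0 < n) : ∃ μ : V, ∀ a, Rt a → bf (η - n • μ) a ≤ n := by
  obtain ⟨p, _, k, _, _, _, Mx, ⟨X⟩⟩ := exists_X
  obtain ⟨μ, h⟩ : ∃ μ : V, ∀ a : V, X.D.Rt a → (η - n • μ) ⬝ᵥ (X.D.cor a : V) ≤ n := exists_small (D := X.D) η hn
  exact ⟨μ, fun a ha => (congrArg (fun y : V => (η - n • μ) ⬝ᵥ y) (cor_eq X ha)).symm.trans_le (h a (rt_iff.1 ha))⟩

/-- **Steinberg** -/
theorem stein {η μ v : V} {n : ℤ} (hn : 0 < n) {w : W8} (h : ac w η = η + n • μ)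
    (hv : ∀ a, Rt a → n ∣ bf η a → bf a v = 0) : ac w v = v := by
  obtain ⟨p, _, k, _, _, _, Mx, ⟨X⟩⟩ := exists_X
  obtain ⟨ν, h1⟩ := small η hn
  let H : Subgroup W8 :=
    { carrier := {u | ac u v = v}
      one_mem' := ac_one v
      mul_mem' := fun {a b} ha hb => (ac_mul a b v).trans ((congrArg _ hb).trans ha)
      inv_mem' := fun {a} ha => (congrArg _ (Eq.symm ha)).trans (ac_inv a v) }
  have h2 : ac w (η - n • ν) = η - n • ν + n • (μ + ν - ac w ν) := by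
    rw [map_sub, map_smul, h, smul_sub, smul_add]
    abel
  have h3 : ∀ a : V, Rt a → n ∣ bf (η - n • ν) a → ac (X.D.rf a) v = v := fun a ha e => by
    rw [bf_sub_left, bf_smul_left, dvd_sub_left (Dvd.intro _ rfl)] at e
    rw [ac_rf X ha, hv a ha e, zero_smul, sub_zero]
  refine H.inv_mem_iff.1 (mem_of_aff (D := X.D) (η := η - n • ν) hn (fun a ha =>
    (congrArg (fun y : V => (η - n • ν) ⬝ᵥ y) (cor_eq X (rt_iff.2 ha))).trans_le (h1 a (rt_iff.2 ha))) (H := H)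
    (fun a ha e => ?_) w⁻¹ (μ + ν - ac w ν) ((X.D.wt_act' w⁻¹ (η - n • ν)).symm.trans ?_))
  · exact h3 a (rt_iff.2 ha) (e.trans (congrArg (fun y : V => (η - n • ν) ⬝ᵥ y) (cor_eq X (rt_iff.2 ha))).dvd)
  · exact (congrArg (fun u : W8 => ac u (η - n • ν)) (inv_inv w)).trans h2

theorem finite_rt : {a | Rt a}.Finite := by
  refine ((L8.finite_toSet.image (dg 8)).union (L8.finite_toSet.image fun x => -dg 8 x)).subset fun a h => ?_
  obtain ⟨x, hx, e | e⟩ := rt_list h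
  · exact .inl ⟨x, hx, e.symm⟩
  · exact .inr ⟨x, hx, neg_eq_iff_eq_neg.2 e.symm⟩

theorem exists_bd (y : V) : ∃ n : ℤ, 0 < n ∧ ∀ a, Rt a → |bf y a| < n := by
  obtain ⟨n, hn⟩ := (finite_rt.image fun a => |bf y a| + 1).bddAbove
  have h : ∀ a, Rt a → |bf y a| < n := fun a ha => Int.lt_of_add_one_le (hn ⟨a, ha, rfl⟩)
  exact ⟨n, (abs_nonneg _).trans_lt (h _ rt_th), h⟩

/-- lexicographically dominant conjugates -/
theorem lex (x y : V) : ∃ w, (∀ i, 0 ≤ bf (ac w x) (sr i)) ∧ ∀ i, bf (ac w x) (sr i) = 0 → 0 ≤ bf (ac w y) (sr i) := by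
  obtain ⟨n, hn, h⟩ := exists_bd y
  obtain ⟨w, hw⟩ := dom (n • x + y)
  simp only [map_add, map_smul, bf_add_left, bf_smul_left] at hw
  refine ⟨w, fun i => ?_, fun i e => by simpa only [e, mul_zero, zero_add] using hw i⟩
  have h1 := abs_lt.1 (h _ ((rt_sr i).ac w⁻¹))
  rw [← bf_ac'] at h1
  have h2 := hw i
  by_contra h3
  nlinarith

theorem lex_th {β : V} (hβ : Rt β) (y : V) : ∃ w, ac w β = th ∧ ∀ i, i ≠ 7 → 0 ≤ bf (ac w y) (sr i) := by
  obtain ⟨w, h1, h2⟩ := lex β y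
  have h3 := eq_th (hβ.ac w) h1
  exact ⟨w, h3, fun i hi => h2 i (by rw [h3, bf_comm, bf_th, sr_ne hi.symm])⟩

theorem mem_span {S : Set V} {v : V} (h : ∀ i, v i ≠ 0 → sr i ∈ S) : v ∈ Submodule.span ℤ S := by
  rw [show v = ∑ i, v i • sr i from funext fun j => by simp [sr, Pi.single_apply]]
  refine Submodule.sum_mem _ fun i _ => ?_
  by_cases e : v i = 0
  · rw [e, zero_smul]
    exact zero_mem _
  · exact Submodule.smul_mem _ _ (Submodule.subset_span (h i e))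

theorem span_ac {S S' : Set V} {v : V} (w : W8) (h : ac w v ∈ Submodule.span ℤ S') (e : ∀ a ∈ S', ac w⁻¹ a ∈ S) :
    v ∈ Submodule.span ℤ S := by
  rw [← ac_inv w v]
  exact (Submodule.map_span_le _ _ _).2 (fun a ha => Submodule.subset_span (e a ha)) (Submodule.mem_map_of_mem h)

/-- `β^⊥` is spanned by roots -/
theorem prim1 {β v : V} (hβ : Rt β) (h : bf β v = 0) : v ∈ Submodule.span ℤ {a | Rt a ∧ bf β a = 0} := by
  obtain ⟨w, e⟩ := exists_th hβ
  refine span_ac w (S' := {a | Rt a ∧ a 7 = 0}) (mem_span fun i hi => ⟨rt_sr i, sr_ne ?_⟩) fun a ha =>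
    ⟨ha.1.ac _, by rw [← bf_ac', e, bf_comm, bf_th, ha.2]⟩
  rintro rfl
  exact hi (by rw [← bf_th (ac w v), ← e, bf_ac, bf_comm, h])

theorem pair_chk : ∀ x ∈ L8, ∀ s ∈ [dg 8 x, -dg 8 x], (∀ i, i ≠ 7 → 0 ≤ bf s (sr i)) →
    (s 7 = 0 → C8 *ᵥ s = Pi.single 0 1 - Pi.single 7 1) ∧ (s 7 = 1 → s = th - sr 7) := by decide +kernel

theorem pair_eq {a : V} (h : Rt a) (h0 : ∀ i, i ≠ 7 → 0 ≤ bf a (sr i)) :
    (a 7 = 0 → ∀ v, bf v a = v 0 - v 7) ∧ (a 7 = 1 → ∀ v, bf v a = v 6 - v 7) := by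
  obtain ⟨x, hx, e⟩ := rt_list h
  have h1 := pair_chk x hx a (by simpa only [List.mem_cons, List.not_mem_nil, or_false, neg_eq_iff_eq_neg] using e) h0
  refine ⟨fun e v => by rw [bf, h1.1 e, dotProduct_sub, dotProduct_single, dotProduct_single, mul_one, mul_one],
    fun e v => ?_⟩
  rw [h1.2 e, bf, show C8 *ᵥ (th - sr 7) = Pi.single 6 1 - Pi.single 7 1 by decide +kernel, dotProduct_sub,
    dotProduct_single, dotProduct_single, mul_one, mul_one]

/-- `{β, γ}^⊥` is spanned by roots -/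
theorem prim2 {β γ v : V} (hβ : Rt β) (hγ : Rt γ) (h : bf β γ = 0 ∨ bf β γ = 1) (h1 : bf β v = 0) (h2 : bf γ v = 0) :
    v ∈ Submodule.span ℤ {a | Rt a ∧ bf β a = 0 ∧ bf γ a = 0} := by
  obtain ⟨w, e, h3⟩ := lex_th hβ γ
  have h4 := pair_eq (hγ.ac w) h3
  have h5 : ∀ x, ac w x 7 = bf β x := fun x => by rw [← bf_th (ac w x), ← e, bf_ac, bf_comm]
  obtain ⟨j, h6⟩ : ∃ j, ∀ x, bf x (ac w γ) = x j - x 7 :=
    h.elim (fun h => ⟨_, h4.1 ((h5 γ).trans h)⟩) fun h => ⟨_, h4.2 ((h5 γ).trans h)⟩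
  refine span_ac w (S' := {a | Rt a ∧ a 7 = 0 ∧ a j = 0}) (mem_span fun i hi => ⟨rt_sr i, sr_ne ?_, sr_ne ?_⟩) fun a ha =>
    ⟨ha.1.ac _, by rw [← h5, ac_inv', ha.2.1], by rw [← bf_ac', bf_comm, h6, ha.2.1, ha.2.2, sub_zero]⟩
  · rintro rfl
    exact hi ((h5 v).trans h1)
  · rintro rfl
    have h7 := h6 (ac w v)
    rw [bf_ac, bf_comm, h2, h5, h1, sub_zero] at h7
    exact hi h7.symm

end Cfsg.Agent.HZ.L.E7
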