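import Cfsg.Agent.HZ.L.E7.Defs
import Cfsg.Agent.HZ.L.CL.Ex

/-!
# HZ/L/E7: the standard Levi subsystems of `E₈` without `E₆` are of exact type (helper67)

For each missing node `c < 6` the other simple roots are mapped isometrically to roots of `D₁₀` by `T c`.
-/

set_option autoImplicit false
set_option linter.unusedSectionVars false
set_option maxRecDepth 100000
set_option synthInstance.maxSize 4096
set_option synthInstance.maxHeartbeats 200000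

namespace Cfsg.Agent.HZ.L.E7.ExB

open Matrix Cfsg.Agent.HZ.L.CL Cfsg.Agent.HZ.L.CL.ExB

/-- the images of the simple roots -/
def TL : List (List (List ℤ)) :=
  [[[0, 1, -1, 0, 0, 0, 0, 0], [0, 1, 1, -1, 0, 0, 0, 0], [0, 0, 0, 1, -1, 0, 0, 0], [0, 0, 0, 0, 1, -1, 0, 0], [0, 0,
  0, 0, 0, 1, -1, 0], [0, 0, 0, 0, 0, 0, 1, -1], [0, 0, 0, 0, 0, 0, 0, 1], [0, 0, 0, 0, 0, 0, 0, 0], [0, 0, 0, 0, 0,
  0, 0, 0], [0, 0, 0, 0, 0, 0, 0, 0]], [[-1, 0, 0, 0, 0, 0, 0, 0], [1, 0, -1, 0, 0, 0, 0, 0], [0, 0, 1, -1, 0, 0, 0,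
  0], [0, 0, 0, 1, -1, 0, 0, 0], [0, 0, 0, 0, 1, -1, 0, 0], [0, 0, 0, 0, 0, 1, -1, 0], [0, 0, 0, 0, 0, 0, 1, -1], [0,
  0, 0, 0, 0, 0, 0, 1], [0, 0, 0, 0, 0, 0, 0, 0], [0, 0, 0, 0, 0, 0, 0, 0]], [[-1, 0, 0, 0, 0, 0, 0, 0], [1, 0, 0, 0,
  0, 0, 0, 0], [0, -1, 0, 0, 0, 0, 0, 0], [0, 1, 0, -1, 0, 0, 0, 0], [0, 0, 0, 1, -1, 0, 0, 0], [0, 0, 0, 0, 1, -1, 0,
  0], [0, 0, 0, 0, 0, 1, -1, 0], [0, 0, 0, 0, 0, 0, 1, -1], [0, 0, 0, 0, 0, 0, 0, 1], [0, 0, 0, 0, 0, 0, 0, 0]], [[-1,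
  0, 0, 0, 0, 0, 0, 0], [1, 0, -1, 0, 0, 0, 0, 0], [0, 0, 1, 0, 0, 0, 0, 0], [0, -1, 0, 0, 0, 0, 0, 0], [0, 1, 0, 0,
  0, 0, 0, 0], [0, 0, 0, 0, -1, 0, 0, 0], [0, 0, 0, 0, 1, -1, 0, 0], [0, 0, 0, 0, 0, 1, -1, 0], [0, 0, 0, 0, 0, 0, 1,
  -1], [0, 0, 0, 0, 0, 0, 0, 1]], [[-1, 0, 0, 0, 0, 0, 0, 0], [1, 0, -1, 0, 0, 0, 0, 0], [0, 0, 1, -1, 0, 0, 0, 0],
  [0, -1, 0, 1, 0, 0, 0, 0], [0, 1, 0, 0, 0, 0, 0, 0], [0, 0, 0, 0, 0, -1, 0, 0], [0, 0, 0, 0, 0, 1, -1, 0], [0, 0, 0,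
  0, 0, 0, 1, -1], [0, 0, 0, 0, 0, 0, 0, 1], [0, 0, 0, 0, 0, 0, 0, 0]], [[0, 1, 0, 0, -1, 0, 0, 0], [0, 1, 0, -1, 1,
  0, 0, 0], [0, 0, -1, 1, 0, 0, 0, 0], [-1, 0, 1, 0, 0, 0, 0, 0], [1, 0, 0, 0, 0, 0, 0, 0], [0, 0, 0, 0, 0, 0, -1, 0],
  [0, 0, 0, 0, 0, 0, 1, -1], [0, 0, 0, 0, 0, 0, 0, 1], [0, 0, 0, 0, 0, 0, 0, 0], [0, 0, 0, 0, 0, 0, 0, 0]]]

/-- the doubled fundamental weights -/
def SL : List (List (List ℤ)) :=
  [[[0, 0, 0, 0, 0, 0, 0, 0, 0, 0], [1, 1, 1, 1, 1, 1, 1, 0, 0, 0], [-1, 1, 1, 1, 1, 1, 1, 0, 0, 0], [0, 0, 2, 2, 2,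
  2, 2, 0, 0, 0], [0, 0, 0, 2, 2, 2, 2, 0, 0, 0], [0, 0, 0, 0, 2, 2, 2, 0, 0, 0], [0, 0, 0, 0, 0, 2, 2, 0, 0, 0], [0,
  0, 0, 0, 0, 0, 2, 0, 0, 0]], [[0, 2, 2, 2, 2, 2, 2, 2, 0, 0], [0, 0, 0, 0, 0, 0, 0, 0, 0, 0], [0, 0, 2, 2, 2, 2, 2,
  2, 0, 0], [0, 0, 0, 2, 2, 2, 2, 2, 0, 0], [0, 0, 0, 0, 2, 2, 2, 2, 0, 0], [0, 0, 0, 0, 0, 2, 2, 2, 0, 0], [0, 0, 0,
  0, 0, 0, 2, 2, 0, 0], [0, 0, 0, 0, 0, 0, 0, 2, 0, 0]], [[0, 2, 0, 0, 0, 0, 0, 0, 0, 0], [0, 0, 0, 2, 2, 2, 2, 2, 2,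
  0], [0, 0, 0, 0, 0, 0, 0, 0, 0, 0], [0, 0, 0, 0, 2, 2, 2, 2, 2, 0], [0, 0, 0, 0, 0, 2, 2, 2, 2, 0], [0, 0, 0, 0, 0,
  0, 2, 2, 2, 0], [0, 0, 0, 0, 0, 0, 0, 2, 2, 0], [0, 0, 0, 0, 0, 0, 0, 0, 2, 0]], [[0, 2, 2, 0, 0, 0, 0, 0, 0, 0],
  [0, 0, 0, 0, 2, 0, 0, 0, 0, 0], [0, 0, 2, 0, 0, 0, 0, 0, 0, 0], [0, 0, 0, 0, 0, 0, 0, 0, 0, 0], [0, 0, 0, 0, 0, 0,
  2, 2, 2, 2], [0, 0, 0, 0, 0, 0, 0, 2, 2, 2], [0, 0, 0, 0, 0, 0, 0, 0, 2, 2], [0, 0, 0, 0, 0, 0, 0, 0, 0, 2]], [[0,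
  2, 2, 2, 2, 0, 0, 0, 0, 0], [0, 0, 0, 0, 2, 0, 0, 0, 0, 0], [0, 0, 2, 2, 2, 0, 0, 0, 0, 0], [0, 0, 0, 2, 2, 0, 0, 0,
  0, 0], [0, 0, 0, 0, 0, 0, 0, 0, 0, 0], [0, 0, 0, 0, 0, 0, 2, 2, 2, 0], [0, 0, 0, 0, 0, 0, 0, 2, 2, 0], [0, 0, 0, 0,
  0, 0, 0, 0, 2, 0]], [[0, 0, 0, 0, 2, 0, 0, 0, 0, 0], [1, 1, 1, 1, 1, 0, 0, 0, 0, 0], [0, 0, 0, 2, 2, 0, 0, 0, 0, 0],
  [0, 0, 2, 2, 2, 0, 0, 0, 0, 0], [-1, 1, 1, 1, 1, 0, 0, 0, 0, 0], [0, 0, 0, 0, 0, 0, 0, 0, 0, 0], [0, 0, 0, 0, 0, 0,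
  2, 2, 0, 0], [0, 0, 0, 0, 0, 0, 0, 2, 0, 0]]]

/-- the blocks -/
def YL : List (List ℤ) :=
  [[0, 0, 0, 0, 0, 0, 0, 1, 2, 3], [1, 1, 1, 1, 1, 1, 1, 1, 2, 3], [1, 1, 2, 2, 2, 2, 2, 2, 2, 3], [1, 1, 1, 2, 2, 3,
  3, 3, 3, 3], [1, 1, 1, 1, 1, 2, 2, 2, 2, 3], [0, 0, 0, 0, 0, 1, 1, 1, 2, 3]]

/-- the embedding -/
def T (c : ℕ) : Matrix (Fin 10) (Fin 8) ℤ := Matrix.of fun i k => ((TL.getD c []).getD i []).getD k 0

/-- twice the left inverse -/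
def S (c : ℕ) : Matrix (Fin 8) (Fin 10) ℤ := Matrix.of fun k i => ((SL.getD c []).getD k []).getD i 0

/-- the central vector -/
def y0 (c : ℕ) : Fin 10 → ℤ := fun i => (YL.getD c []).getD i 0

/-- the coefficients of a root -/
def mm (c : ℕ) (i j : Fin 10) (s t : ℤ) : V := fun k => (S c k i * s + S c k j * t) / 2

theorem p0 : ∀ c < 6, ∀ q : Fin 8 × Fin 8, (q.1.1 ≠ c → q.2.1 ≠ c → ∑ i, T c i q.1 * T c i q.2 = C8 q.1 q.2) ∧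
    ∑ i, S c q.1 i * T c i q.2 = if q.1 = q.2 ∧ q.1.1 ≠ c then 2 else 0 := by decide +kernel

theorem p1 : ∀ c < 6, ∀ j k : Fin 8, (j.1 ≠ c → k.1 ≠ c → ∑ i, T c i j * T c i k = C8 j k) ∧
    ∑ i, S c j i * T c i k = if j = k ∧ j.1 ≠ c then 2 else 0 := fun c hc j k => p0 c hc (j, k)

theorem p2 : ∀ c < 6, (∀ k, ∑ i, y0 c i * T c i k = 0) ∧ (∀ k i, -2 ≤ S c k i ∧ S c k i ≤ 2) ∧
    (∀ k : Fin 8, k.1 = c → ∀ i, S c k i = 0) ∧ (Finset.univ.filter fun i => y0 c i = 0).card ≤ 7 := by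
  simp only [S, T, of_apply]
  decide +kernel

theorem p3 : ∀ c < 6, ∀ i j : Fin 10, i ≠ j → ∀ s ∈ [(1 : ℤ), -1], ∀ t ∈ [(1 : ℤ), -1], s * y0 c i + t * y0 c j = 0 →
    (∀ k, S c k i * s + S c k j * t = 2 * mm c i j s t k) ∧
    (∀ a, ∑ k, T c a k * mm c i j s t k = (if a = i then s else 0) + if a = j then t else 0) ∧
    ((∀ k, 0 ≤ mm c i j s t k) ∨ ∀ k, mm c i j s t k ≤ 0) := by decide +kernel

theorem peel {n : ℕ} {v : Fin n → ℤ} (h0 : v ⬝ᵥ v ≠ 0) (h : v ⬝ᵥ v ≤ 3) :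
    ∃ (i : Fin n) (s : ℤˣ) (w : Fin n → ℤ), v = uv i s + w ∧ w i = 0 ∧ w ⬝ᵥ w + 1 = v ⬝ᵥ v := by
  obtain ⟨i, hi⟩ : ∃ i, v i ≠ 0 := by
    by_contra hc
    push Not at hc
    exact h0 (by rw [show v = 0 from funext hc, zero_dotProduct])
  have h1 : v i * v i ≤ v ⬝ᵥ v := Finset.single_le_sum (f := fun i => v i * v i) (fun j _ => mul_self_nonneg _)
    (Finset.mem_univ i)
  have h2 : v i = 1 ∨ v i = -1 := by
    have h3 : v i < 2 := by nlinarith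
    have h4 : -2 < v i := by nlinarith
    omega
  obtain ⟨s, hs⟩ : ∃ s : ℤˣ, (s : ℤ) = v i := h2.elim (fun e => ⟨1, e.symm⟩) fun e => ⟨-1, e.symm⟩
  refine ⟨i, s, v - uv i s, by abel, by simp [uv, hs], ?_⟩
  have h3 : v i * v i = 1 := by rcases h2 with e | e <;> rw [e] <;> rfl
  rw [sub_dotProduct, dotProduct_sub, dotProduct_sub, dotProduct_comm v (uv i s), uv_dot, uv_dot, hs]
  simp only [uv, Pi.single_eq_same, hs]
  omega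

theorem full_of {n : ℕ} {v : Fin n → ℤ} (h : v ⬝ᵥ v = 2) : (v, v) ∈ full .D n := by
  obtain ⟨i, s, w, e1, h1, h2⟩ := peel (v := v) (by omega) (by omega)
  obtain ⟨j, t, u, e2, -, h3⟩ := peel (v := w) (by omega) (by omega)
  obtain rfl : u = 0 := dotProduct_self_eq_zero.1 (by omega)
  rw [add_zero] at e2
  refine .inl ⟨i, j, s, t, ?_, by rw [e1, e2]⟩
  rintro rfl
  simp [e2, uv] at h1

variable {c : Fin 8}

theorem iso_T (hc : c.1 < 6) {x y : V} (hx : x c = 0) (hy : y c = 0) : T c *ᵥ x ⬝ᵥ T c *ᵥ y = bf x y := by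
  rw [dotProduct_mulVec, vecMul_mulVec, ← dotProduct_mulVec, bf]
  refine Finset.sum_congr rfl fun j _ => ?_
  by_cases h : j = c
  · rw [h, hx, zero_mul, zero_mul]
  refine congrArg (x j * ·) ?_
  show ∑ k, ((T c)ᵀ * T c) j k * y k = ∑ k, C8 j k * y k
  refine Finset.sum_congr rfl fun k _ => ?_
  by_cases h' : k = c
  · rw [h', hy, mul_zero, mul_zero]
  exact congrArg (· * y k) ((p1 c hc j k).1 (fun e => h (Fin.ext e)) fun e => h' (Fin.ext e))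

theorem S_T (hc : c.1 < 6) {x : V} (hx : x c = 0) (j : Fin 8) : (S c *ᵥ (T c *ᵥ x)) j = 2 * x j := by
  rw [mulVec_mulVec]
  have h1 : ∀ k, (S c * T c) j k * x k = if j = k then 2 * x k else 0 := fun k => by
    rw [mul_apply, (p1 c hc j k).2]
    by_cases h : j = k
    · subst h
      by_cases h' : j = c
      · simp [h', hx]
      · have : j.1 ≠ c.1 := fun e => h' (Fin.ext e)
        simp [this]
    · simp [h]
  show ∑ k, (S c * T c) j k * x k = _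
  simp only [h1, Finset.sum_ite_eq, Finset.mem_univ, if_true]

open Classical in
/-- the indicator of the complement -/
noncomputable def ind (K : Set (Fin 8)) : V := fun k => if k ∈ K then 0 else 1

theorem ind_bd (K : Set (Fin 8)) {x : V} {b : ℤ} (h : ∀ k, -b ≤ x k ∧ x k ≤ b) :
    -(8 * b) ≤ ind K ⬝ᵥ x ∧ ind K ⬝ᵥ x ≤ 8 * b := by
  have h1 : ∀ k, -b ≤ ind K k * x k ∧ ind K k * x k ≤ b := fun k => by
    have := h k
    unfold ind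
    split_ifs <;> omega
  have h2 := Finset.sum_le_sum (s := Finset.univ) fun k _ => (h1 k).1
  have h3 := Finset.sum_le_sum (s := Finset.univ) fun k _ => (h1 k).2
  simp only [Finset.sum_const, Finset.card_univ, Fintype.card_fin, nsmul_eq_mul, Nat.cast_ofNat] at h2 h3
  exact ⟨by rw [← mul_neg]; exact h2, h3⟩

theorem ind_zero (K : Set (Fin 8)) {x : V} (h : ∀ k, 0 ≤ x k) (h0 : ind K ⬝ᵥ x = 0) : ∀ k, k ∉ K → x k = 0 := by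
  intro k hk
  have h1 := (Finset.sum_eq_zero_iff_of_nonneg (f := fun k => ind K k * x k) fun k _ => by
    have := h k
    unfold ind
    split_ifs <;> omega).1 h0 k (Finset.mem_univ k)
  simpa [ind, hk] using h1

/-- the cocharacter of the Levi subsystem -/
noncomputable def yy (c : Fin 8) (K : Set (Fin 8)) : Fin 10 → ℤ := (100 : ℤ) • y0 c + ind K ᵥ* S c

theorem dot_yy (K : Set (Fin 8)) (r : Fin 10 → ℤ) : r ⬝ᵥ yy c K = 100 * (r ⬝ᵥ y0 c) + ind K ⬝ᵥ S c *ᵥ r := by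
  rw [yy, dotProduct_add, dotProduct_smul, smul_eq_mul, dotProduct_mulVec, dotProduct_comm r (_ ᵥ* _)]

theorem mem_pm (s : ℤˣ) : (s : ℤ) ∈ [(1 : ℤ), -1] := by
  rcases Int.units_eq_one_or s with rfl | rfl <;> simp

theorem iso_sl (hc : c.1 < 6) {K : Set (Fin 8)} (hK : c ∉ K) : Iso (sl K) (lev (full .D 10) (yy c K)) := by
  have h1 : ∀ a ∈ sl K, bf a.2 a.2 = 2 ∧ ∀ v, a.1 ⬝ᵥ v = bf a.2 v := fun a ha => by
    have h := ha.1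
    simp only [top, Rt, one_mulVec, Set.mem_ofPred_eq] at h
    exact h
  refine iso_of (fun a => (T c *ᵥ a.2, T c *ᵥ a.2)) ⟨fun a ha => ⟨full_of ?_, ?_⟩, ?_, ?_⟩
    fun a ha b hb => (iso_T hc (ha.2 c hK) (hb.2 c hK)).trans ((h1 a ha).2 _).symm
  · exact (iso_T hc (ha.2 c hK) (ha.2 c hK)).trans (h1 a ha).1
  · show T c *ᵥ a.2 ⬝ᵥ yy c K = 0
    have h2 : y0 c ᵥ* T c = 0 := funext (p2 c hc).1
    have h3 : ind K ⬝ᵥ S c *ᵥ (T c *ᵥ a.2) = 0 := Finset.sum_eq_zero fun k _ => by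
      rw [S_T hc (ha.2 c hK)]
      unfold ind
      split_ifs with h
      · exact zero_mul _
      · rw [ha.2 k h, mul_zero, mul_zero]
    rw [dot_yy, h3, dotProduct_comm, dotProduct_mulVec, h2, zero_dotProduct, mul_zero, add_zero]
  · intro a ha b hb e
    have e1 := (Prod.mk.inj e).1
    have e2 : a.2 = b.2 := funext fun j => by
      have h2 := S_T hc (ha.2 c hK) j
      rw [e1, S_T hc (hb.2 c hK)] at h2
      omega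
    refine Prod.ext (funext fun j => ?_) e2
    have h2 := (h1 a ha).2 (Pi.single j 1)
    rw [e2, ← (h1 b hb).2] at h2
    simpa using h2
  · rintro r ⟨⟨i, j, s, t, h, rfl⟩ | ⟨i, s, ⟨h, -⟩ | ⟨h, -⟩⟩, h0⟩
    · have h2 : ∀ k, (S c *ᵥ (uv i s + uv j t)) k = S c k i * s + S c k j * t := fun k => by
        simp [uv, mulVec_add, mulVec_single, mul_comm]
      have h3 := ind_bd K (x := S c *ᵥ (uv i s + uv j t)) (b := 4) fun k => by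
        have a1 := (p2 c hc).2.1 k i
        have a2 := (p2 c hc).2.1 k j
        rw [h2]
        rcases Int.units_eq_one_or s with rfl | rfl <;> rcases Int.units_eq_one_or t with rfl | rfl <;>
          simp only [Units.val_one, Units.val_neg] <;> omega
      have h4 : (uv i s + uv j t) ⬝ᵥ yy c K = 0 := h0
      rw [dot_yy, add_dotProduct, uv_dot, uv_dot] at h4
      obtain ⟨b1, b2, b3⟩ := p3 c hc i j h s (mem_pm s) t (mem_pm t) (by omega)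
      have h5 : T c *ᵥ mm c i j s t = uv i s + uv j t := funext fun a => (b2 a).trans (by simp [uv, Pi.single_apply])
      have h6 : ind K ⬝ᵥ mm c i j s t = 0 := by
        have e : S c *ᵥ (uv i s + uv j t) = (2 : ℤ) • mm c i j s t := funext fun k => (h2 k).trans (b1 k)
        rw [e, dotProduct_smul, smul_eq_mul] at h3 h4
        omega
      have h7 : ∀ k, k ∉ K → mm c i j s t k = 0 := by
        rcases b3 with b3 | b3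
        · exact ind_zero K b3 h6
        · exact fun k hk => neg_eq_zero.1 (ind_zero K (x := -mm c i j s t) (fun k => neg_nonneg.2 (b3 k))
            (by rw [dotProduct_neg, h6, neg_zero]) k hk)
      refine ⟨(mm c i j s t ᵥ* C8, mm c i j s t), ⟨⟨?_, fun v => ?_⟩, h7⟩, by simp only [h5]⟩
      · show bf (1 *ᵥ mm c i j s t) (1 *ᵥ mm c i j s t) = 2
        rw [one_mulVec, ← iso_T hc (h7 c hK) (h7 c hK), h5, add_dotProduct, uv_dot, uv_dot]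
        rcases Int.units_eq_one_or s with rfl | rfl <;> rcases Int.units_eq_one_or t with rfl | rfl <;>
          simp [uv, h, h.symm]
      · show mm c i j s t ᵥ* C8 ⬝ᵥ v = bf (1 *ᵥ mm c i j s t) (1 *ᵥ v)
        rw [one_mulVec, one_mulVec, bf, dotProduct_mulVec]
    · cases h
    · cases h

theorem card_zero (hc : c.1 < 6) (K : Set (Fin 8)) : Nat.card {i // (yy c K i).natAbs = 0} ≤ 7 := by
  classical
  rw [Nat.card_eq_fintype_card, Fintype.card_subtype]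
  refine (Finset.card_le_card fun i hi => ?_).trans (p2 c hc).2.2.2
  simp only [Finset.mem_filter, Finset.mem_univ, true_and, Int.natAbs_eq_zero] at hi ⊢
  have h1 := ind_bd K (x := fun k => S c k i) (b := 2) fun k => (p2 c hc).2.1 k i
  have h2 : yy c K i = 100 * y0 c i + ind K ⬝ᵥ fun k => S c k i := rfl
  omega

end Cfsg.Agent.HZ.L.E7.ExB

open Cfsg.Agent.HZ.L.E7.ExB Cfsg.Agent.HZ.L.CL.ExB in
/-- **the standard Levi subsystems without `E₆`** -/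
theorem Cfsg.Agent.HZ.L.E7.boxEx : Cfsg.Agent.HZ.L.E7.BoxEx := by
  rintro K ⟨c, hc, hK⟩
  have h1 := iso_sg (κ := .D) (fun i => if yy c K i < 0 then -1 else 1) (yy c K)
  have h2 : sg (fun i => if yy c K i < 0 then -1 else 1) (yy c K) = fun i => ((yy c K i).natAbs : ℤ) := by
    funext i
    simp only [sg]
    split_ifs <;> simp only [Units.val_neg, Units.val_one] <;> omega
  rw [h2, std_eq] at h1
  exact ⟨10, .D, _, iso_trans (iso_sl hc hK) h1, .inr ⟨rfl, card_zero hc K⟩⟩
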