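import Cfsg.Agent.HZ.L.E7.Iso

/-!
# HZ/L/E7: the frames (helper5)

`pr J γ`, `Fr7.lift`, `Fr7.cls` (the Levi subsystems), `Fr7.iy` (isolated cocharacters).
-/

set_option autoImplicit false
set_option linter.unusedSectionVars false
set_option maxHeartbeats 400000

namespace Cfsg.Agent.HZ.L.E7

open Cfsg Cfsg.Agent.DL Cfsg.Agent.Tits.Roots Matrix

theorem eq_zero_of_bf {x : V} (h : bf x x ≤ 0) : x = 0 := by
  obtain ⟨w, hw⟩ := dom x
  rw [← bf_ac w, bf_sum] at h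
  rw [← ac_inv w x]
  generalize ac w x = a at hw h
  have h1 : a = Ci *ᵥ fun i => bf a (sr i) := by
    rw [show (fun i => bf a (sr i)) = C8 *ᵥ a from funext fun i => by rw [bf_comm, bf_sr], mulVec_mulVec, Ci_C8, one_mulVec]
  have h3 : ∀ i j : Fin 8, (0 : ℤ) < Ci i j := by
    intro i j
    fin_cases i <;> fin_cases j <;> decide
  have h4 : ∀ i, Ci i i * bf a (sr i) ≤ a i := fun i => (Finset.single_le_sum (f := fun j => Ci i j * bf a (sr j))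
    (fun j _ => mul_nonneg (h3 i j).le (hw j)) (Finset.mem_univ i)).trans_eq (congrFun h1 i).symm
  have h5 : ∀ i, a i * bf a (sr i) ≤ 0 := fun i => (Finset.single_le_sum (f := fun j => a j * bf a (sr j))
    (fun j _ => mul_nonneg ((mul_nonneg (h3 j j).le (hw j)).trans (h4 j)) (hw j)) (Finset.mem_univ i)).trans h
  rw [eq_zero_of_sr fun i => (hw i).eq_or_lt.elim Eq.symm fun e =>
    absurd (mul_pos ((mul_pos (h3 i i) e).trans_le (h4 i)) e) (h5 i).not_gt, map_zero]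

theorem dvd_span {S : Set V} {x y : V} {n : ℤ} (hx : x ∈ Submodule.span ℤ S) (h : ∀ a ∈ S, n ∣ bf y a) : n ∣ bf y x := by
  induction hx using Submodule.span_induction with
  | mem a ha => exact h a ha
  | zero => rw [bf_zero_right]; exact dvd_zero n
  | add a b _ _ ha hb => rw [bf_add_right]; exact ha.add hb
  | smul m a _ ha => rw [bf_smul_right]; exact ha.mul_left m

theorem perp_one {β x : V} (hβ : Rt β) (h : bf β x = 0) (h' : ∀ a, Rt a → bf β a = 0 → bf x a = 0) : x = 0 :=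
  eq_zero_of_bf (zero_dvd_iff.1 (dvd_span (prim1 hβ h) fun a ha => zero_dvd_iff.2 (h' a ha.1 ha.2))).le

theorem perp_two {β γ x : V} (hβ : Rt β) (hγ : Rt γ) (h : bf β γ = 0 ∨ bf β γ = 1) (h1 : bf β x = 0) (h2 : bf γ x = 0)
    (h' : ∀ a, Rt a → bf β a = 0 → bf γ a = 0 → bf x a = 0) : x = 0 :=
  eq_zero_of_bf (zero_dvd_iff.1 (dvd_span (prim2 hβ hγ h h1 h2) fun a ha => zero_dvd_iff.2 (h' a ha.1 ha.2.1 ha.2.2))).le

theorem Rt.le_one {a b : V} (ha : Rt a) (hb : Rt b) (h : a ≠ b) : bf a b ≤ 1 := by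
  by_contra e
  refine h (sub_eq_zero.1 (eq_zero_of_bf ?_))
  rw [bf_sub_left, bf_sub_right, bf_sub_right, ha, hb, bf_comm b]
  omega

theorem exists_one {β : V} (hβ : Rt β) : ∃ x, bf β x = 1 := by
  obtain ⟨w, e⟩ := exists_th hβ
  exact ⟨ac w⁻¹ (sr 7), by rw [← bf_ac', e, bf_comm, bf_th, sr_self]⟩

theorem exists_two {β γ : V} (hβ : Rt β) (hγ : Rt γ) (h : bf β γ = 0 ∨ bf β γ = 1) : ∃ x, bf β x = 0 ∧ bf γ x = 1 := by
  obtain ⟨w, e, h3⟩ := lex_th hβ γ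
  have h4 := pair_eq (hγ.ac w) h3
  have h5 : ac w γ 7 = bf β γ := by rw [← bf_th (ac w γ), ← e, bf_ac, bf_comm]
  obtain ⟨j, hj, h6⟩ : ∃ j, 7 ≠ j ∧ ∀ x, bf x (ac w γ) = x j - x 7 :=
    h.elim (fun h => ⟨_, by decide, h4.1 (h5.trans h)⟩) fun h => ⟨_, by decide, h4.2 (h5.trans h)⟩
  exact ⟨ac w⁻¹ (sr j), by rw [← bf_ac', e, bf_comm, bf_th, sr_ne hj], by
    rw [← bf_ac', bf_comm, h6, sr_self, sr_ne hj, sub_zero]⟩

/-- Steinberg in a Levi subsystem -/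
theorem stein' {η ζ v : V} {n : ℤ} (hn : 0 < n) {g : W8} (h : ∀ x, n ∣ bf η (ac g x) - bf η x) (hz : ac g ζ = ζ)
    (hv : ∀ a, Rt a → bf a ζ = 0 → n ∣ bf η a → bf a v = 0) : ac g v = v := by
  obtain ⟨N, hN, h1⟩ := exists_bd ζ
  obtain ⟨μ, hμ⟩ := exists_dvd (n := n) (x := ac g⁻¹ η - η) fun x => by
    rw [bf_sub_left, bf_ac', inv_inv]
    exact h x
  have h2 : ac g⁻¹ ζ = ζ := (congrArg _ hz.symm).trans (ac_inv g ζ)
  have h3 := stein (η := N • η + ζ) (μ := μ) (v := v) (mul_pos hN hn) (w := g⁻¹) (by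
    rw [map_add, map_smul, h2, sub_eq_iff_eq_add'.1 hμ, smul_add, mul_smul]
    abel) fun a ha e => by
    rw [bf_add_left, bf_smul_left] at e
    have h4 := Int.eq_zero_of_abs_lt_dvd ((dvd_add_right (Dvd.intro _ rfl)).1 ((Dvd.intro _ rfl).trans e)) (h1 a ha)
    rw [h4, add_zero, mul_dvd_mul_iff_left hN.ne'] at e
    exact hv a ha ((bf_comm _ _).trans h4) e
  exact (congrArg _ h3.symm).trans (ac_inv' g v)

theorem exists_zeta (x y : V) : ∃ N : ℤ, 0 < N ∧ ∀ a, Rt a → (bf a (N • x + y) = 0 ↔ bf x a = 0 ∧ bf a y = 0) := by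
  obtain ⟨N, hN, h⟩ := exists_bd y
  refine ⟨N, hN, fun a ha => ?_⟩
  rw [bf_add_right, bf_smul_right, bf_comm x]
  refine ⟨fun e => ?_, fun e => by rw [e.1, e.2, mul_zero, add_zero]⟩
  have h1 := Int.eq_zero_of_abs_lt_dvd ((dvd_add_right (Dvd.intro _ rfl)).1 (e.symm ▸ dvd_zero N)) (bf_comm y a ▸ h a ha)
  rw [h1, add_zero] at e
  exact ⟨(mul_eq_zero.1 e).resolve_left hN.ne', h1⟩

variable {R : Type} [Fintype R] [DecidableEq R] {J : Matrix (Fin 8) R ℤ} {β γ δ : V} {lam : Vec R} {Ψ : RS R}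
  {a : Vec R × Vec R} {A : Mat R} {c : Lb R}

/-- the coroot lattice -/
def Qv (Ψ : RS R) : Submodule ℤ (Vec R) := Submodule.span ℤ (Prod.snd '' Ψ)

theorem chr_Qv (h : ∀ a ∈ Ψ, chr a.2 c = 1) {v : Vec R} (hv : v ∈ Qv Ψ) : chr v c = 1 := by
  induction hv using Submodule.span_induction with
  | mem a ha => obtain ⟨a, ha, rfl⟩ := ha; exact h a ha
  | zero => exact chr_zero c
  | add a b _ _ ha hb => rw [chr_add, ha, hb, mul_one]
  | smul m a _ ha => rw [chr_zsmul, ha, _root_.one_zpow]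

/-- the roots which are orthogonal to `γ` -/
def pr (J : Matrix (Fin 8) R ℤ) (γ : V) : RS R := {a | a ∈ top J ∧ bf γ (J *ᵥ a.2) = 0}

theorem mem_lev : a ∈ lev (top J) lam ↔ a ∈ top J ∧ bf (J *ᵥ a.2) (J *ᵥ lam) = 0 := and_congr_right fun h => by rw [h.2]

namespace Fr7

variable (h : Fr7 J β)
include h

theorem ext {v v' : Vec R} (e : J *ᵥ v = J *ᵥ v') : v = v' := sub_eq_zero.1 (h.inj _ (by rw [mulVec_sub, e, sub_self]))

theorem bJ (v : Vec R) : bf β (J *ᵥ v) = 0 := (h.img _).1 ⟨v, rfl⟩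

theorem exists_top {m : V} (hm : Rt m) (e : bf β m = 0) : ∃ a ∈ top J, J *ᵥ a.2 = m := by
  obtain ⟨v, rfl⟩ := (h.img m).2 e
  exact ⟨((J *ᵥ v) ᵥ* C8 ᵥ* J, v), ⟨hm, fun u => by rw [bf, dotProduct_mulVec, dotProduct_mulVec]⟩, rfl⟩

theorem top_ext {b : Vec R × Vec R} (ha : a ∈ top J) (hb : b ∈ top J) (e : J *ᵥ a.2 = J *ᵥ b.2) : a = b :=
  Prod.ext (funext fun i => by
    have h1 := ha.2 (Pi.single i 1)
    rwa [e, ← hb.2, dotProduct_single, dotProduct_single, mul_one, mul_one] at h1) (h.ext e)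

theorem finite : (top J).Finite :=
  Set.Finite.of_finite_image (f := fun a => J *ᵥ a.2) (finite_rt.subset (by rintro _ ⟨a, ha, rfl⟩; exact ha.1))
    fun _ ha _ hb => h.top_ext ha hb

theorem lev_lev (lam mu : Vec R) : ∃ nu, lev (lev (top J) lam) mu = lev (top J) nu := by
  obtain ⟨nu, h1, h2⟩ := exists_generic (Submodule.span ℤ {lam, mu}) (h.finite.image Prod.fst)
  obtain ⟨s, t, rfl⟩ := Submodule.mem_span_pair.1 h1
  exact ⟨_, Set.ext fun a => ⟨fun e => ⟨e.1.1, by rw [dotProduct_add, dotProduct_smul, dotProduct_smul, e.1.2, e.2]; simp⟩,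
    fun e => ⟨⟨e.1, h2 _ ⟨a, e.1, rfl⟩ e.2 _ (Submodule.subset_span (.inl rfl))⟩,
      h2 _ ⟨a, e.1, rfl⟩ e.2 _ (Submodule.subset_span (.inr rfl))⟩⟩⟩

theorem exists_pi (x : V) : ∃ u, J *ᵥ u = (2 : ℤ) • x - bf β x • β :=
  (h.img _).2 (by rw [bf_sub_right, bf_smul_right, bf_smul_right, h.rt, mul_comm, sub_self])

theorem lift (hA : A ∈ WW (top J)) : ∃ g : W8, (∀ v, J *ᵥ (A *ᵥ v) = ac g (J *ᵥ v)) ∧ ac g β = β := by
  induction hA using Submonoid.closure_induction with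
  | mem x hx =>
    obtain ⟨a, ha, rfl⟩ := hx
    obtain ⟨g, hg⟩ := exists_rf ha.1
    exact ⟨g, fun v => by rw [rfm_vec, mulVec_sub, mulVec_smul, hg, ha.2], by rw [hg, bf_comm, h.bJ, zero_smul, sub_zero]⟩
  | one => exact ⟨1, fun v => by rw [one_mulVec, ac_one], ac_one β⟩
  | mul x y _ _ hx hy =>
    obtain ⟨g, h1, h2⟩ := hx
    obtain ⟨g', h3, h4⟩ := hy
    exact ⟨g * g', fun v => by rw [← mulVec_mulVec, h1, h3, ac_mul], by rw [ac_mul, h4, h2]⟩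

theorem mem_Qv {S : Set V} (hS : ∀ m ∈ S, ∃ a ∈ Ψ, J *ᵥ a.2 = m) {v : Vec R} (hv : J *ᵥ v ∈ Submodule.span ℤ S) :
    v ∈ Qv Ψ := by
  obtain ⟨u, hu, e⟩ : J *ᵥ v ∈ (Qv Ψ).map J.mulVecLin := (Submodule.span_le.2 fun m hm => by
    obtain ⟨a, ha, e⟩ := hS m hm
    exact ⟨a.2, Submodule.subset_span ⟨a, ha, rfl⟩, e⟩) hv
  exact h.ext e ▸ hu

theorem Qv_top (v : Vec R) : v ∈ Qv (top J) := h.mem_Qv (fun _ hm => h.exists_top hm.1 hm.2) (prim1 h.rt (h.bJ v))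

theorem Qv_pr (hγ : Rt γ) (e : bf β γ = 0 ∨ bf β γ = 1) {v : Vec R} (hv : bf γ (J *ᵥ v) = 0) : v ∈ Qv (pr J γ) :=
  h.mem_Qv (S := {a | Rt a ∧ bf β a = 0 ∧ bf γ a = 0}) (fun _ hm => (h.exists_top hm.1 hm.2.1).imp fun _ ha =>
    ⟨And.intro ha.1 ((congrArg _ ha.2).trans hm.2.2), ha.2⟩) (prim2 h.rt hγ e (h.bJ v) hv)

theorem perp_top {v : Vec R} (hv : Perp (top J) v) : v = 0 := h.inj v (perp_one h.rt (h.bJ v) fun m hm e => by
  obtain ⟨a, ha, rfl⟩ := h.exists_top hm e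
  rw [bf_comm, ← ha.2, hv a ha])

theorem perp_pr (hγ : Rt γ) (e : bf β γ = 0 ∨ bf β γ = 1) {v : Vec R} (hv : Perp (pr J γ) v) (h0 : bf γ (J *ᵥ v) = 0) :
    v = 0 := h.inj v (perp_two h.rt hγ e (h.bJ v) h0 fun m hm e1 e2 => by
  obtain ⟨a, ha, rfl⟩ := h.exists_top hm e1
  rw [bf_comm, ← ha.2, hv a ⟨ha, e2⟩])

/-- **the Levi subsystems** -/
theorem cls (hE : BoxEx) (lam : Vec R) :
    Ex (lev (top J) lam) ∨ lam = 0 ∨ ∃ δ, Rt δ ∧ bf β δ = 1 ∧ lev (top J) lam = pr J δ := by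
  obtain ⟨w, e, h1⟩ := lex_th h.rt (J *ᵥ lam)
  have h2 : ∀ x, ac w x 7 = bf β x := fun x => by rw [← bf_th (ac w x), ← e, bf_ac, bf_comm]
  have h3 : ∀ m, Rt m → m 7 = 0 → (bf m (ac w (J *ᵥ lam)) = 0 ↔ ∀ i, bf (ac w (J *ᵥ lam)) (sr i) ≠ 0 → m i = 0) :=
    fun m hm h7 => by
      have h4 : ∀ i, 0 ≤ m i → 0 ≤ m i * bf (ac w (J *ᵥ lam)) (sr i) := fun i hi =>
        (eq_or_ne i 7).elim (fun e => by rw [e, h7, zero_mul]) fun e => mul_nonneg hi (h1 i e)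
      have h5 : ∀ i, m i ≤ 0 → m i * bf (ac w (J *ᵥ lam)) (sr i) ≤ 0 := fun i hi =>
        (eq_or_ne i 7).elim (fun e => by rw [e, h7, zero_mul]) fun e => mul_nonpos_of_nonpos_of_nonneg hi (h1 i e)
      rw [bf_sum]
      rcases hm.sign with e | e
      · rw [Finset.sum_eq_zero_iff_of_nonneg fun i _ => h4 i (e i)]
        simp [or_iff_not_imp_right]
      · rw [Finset.sum_eq_zero_iff_of_nonpos fun i _ => h5 i (e i)]
        simp [or_iff_not_imp_right]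
  have h4 : ∀ a ∈ top J, (a ∈ lev (top J) lam ↔ ∀ i, bf (ac w (J *ᵥ lam)) (sr i) ≠ 0 → ac w (J *ᵥ a.2) i = 0) := fun a ha => by
    rw [mem_lev, and_iff_right ha, ← h3 _ (ha.1.ac w) ((h2 _).trans (h.bJ _)), bf_ac]
  by_cases h5 : ∃ i : Fin 8, i.1 < 6 ∧ bf (ac w (J *ᵥ lam)) (sr i) ≠ 0
  · refine .inl (Iso.ex ?_ (hE {i | i ≠ 7 ∧ bf (ac w (J *ᵥ lam)) (sr i) = 0} (h5.imp fun i hi => ⟨hi.1, fun e => hi.2 e.2⟩)))
    have h6 : ∀ x y : V, x ᵥ* C8 ⬝ᵥ y = bf x y := fun x y => (dotProduct_mulVec _ _ _).symm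
    refine ⟨Equiv.ofBijective (fun a => ⟨(ac w (J *ᵥ a.1.2) ᵥ* C8, ac w (J *ᵥ a.1.2)), ⟨by
      rw [one_mulVec]; exact a.2.1.1.ac w, fun v => by rw [one_mulVec, one_mulVec, h6]⟩, fun i hi => ?_⟩) ⟨fun a b e => ?_, ?_⟩,
      fun a b => (h6 _ _).trans ((bf_ac _ _ _).trans (a.2.1.2 _).symm)⟩
    · exact (eq_or_ne i 7).elim (fun e => e ▸ (h2 _).trans (h.bJ _)) fun e => (h4 _ a.2.1).1 a.2 i fun e' => hi ⟨e, e'⟩
    · exact Subtype.ext (h.top_ext a.2.1 b.2.1 ((ac_inv w _).symm.trans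
        ((congrArg (fun x => ac w⁻¹ x.1.2) e).trans (ac_inv w _))))
    · rintro ⟨b, ⟨h7, h8⟩, h9⟩
      simp only [one_mulVec] at h7 h8
      obtain ⟨a, ha, e⟩ := h.exists_top (h7.ac w⁻¹) (by rw [← h2, ac_inv', h9 7 fun e => e.1 rfl])
      have h10 : ac w (J *ᵥ a.2) = b.2 := by rw [e, ac_inv']
      exact ⟨⟨a, (h4 a ha).2 fun i hi => h10 ▸ h9 i fun e => hi e.2⟩, Subtype.ext (Prod.ext (funext fun i => by
        simpa only [h10, dotProduct_single, mul_one] using (h6 b.2 (Pi.single i 1)).trans (h8 _).symm) h10)⟩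
  push Not at h5
  by_cases h6 : bf (ac w (J *ᵥ lam)) (sr 6) = 0
  · refine .inr (.inl (h.perp_top fun a ha => ((h4 a ha).2 fun i hi => ?_).2))
    obtain rfl : i = 7 := by_contra fun e => hi ((eq_or_ne i 6).elim (fun e => e ▸ h6) fun e' => h5 i (by omega))
    exact (h2 _).trans (h.bJ _)
  · have h7 : ∀ x, bf (th - sr 7) x = x 6 - x 7 := fun x => by
      rw [bf_comm, bf, show C8 *ᵥ (th - sr 7) = Pi.single 6 1 - Pi.single 7 1 by decide +kernel, dotProduct_sub,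
        dotProduct_single, dotProduct_single, mul_one, mul_one]
    refine .inr (.inr ⟨ac w⁻¹ (th - sr 7), Rt.ac (h7 _) _, by rw [← h2, ac_inv']; rfl, Set.ext fun a =>
      ⟨fun ha => ⟨ha.1, ?_⟩, fun ha => (h4 a ha.1).2 fun i hi => ?_⟩⟩)
    · rw [bf_ac', inv_inv, h7, h2, h.bJ, (h4 a ha.1).1 ha 6 h6, sub_zero]
    · have h8 := ha.2
      rw [bf_ac', inv_inv, h7, h2, h.bJ, sub_zero] at h8
      rcases eq_or_ne i 7 with rfl | e
      · exact (h2 _).trans (h.bJ _)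
      · obtain rfl : i = 6 := by_contra fun e' => hi (h5 i (by omega))
        exact h8

/-- the first Levi subsystem of `E₈` -/
theorem cs_one {η : V} {e : ℕ} (H : ∀ u, (∀ a ∈ lev (top J) lam, (2 : ℤ) ^ e ∣ bf η (J *ᵥ a.2) → a.1 ⬝ᵥ u = 0) →
    Perp (lev (top J) lam) u) : (∀ a ∈ lev (top J) lam, (2 : ℤ) ^ e ∣ 2 * bf η (J *ᵥ a.2)) ∨
      lam = 0 ∧ ∀ y, (2 : ℤ) ^ e ∣ 4 * bf η y - 2 * bf η β * bf β y := by
  obtain ⟨N, hN, h1⟩ := exists_zeta β (J *ᵥ lam)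
  have h2 : ∀ a ∈ lev (top J) lam, bf (J *ᵥ a.2) (N • β + J *ᵥ lam) = 0 := fun a ha =>
    (h1 _ ha.1.1).2 ⟨h.bJ _, (mem_lev.1 ha).2⟩
  rcases iso8 (ζ := N • β + J *ᵥ lam) (η := η) (e := e) fun v hv m hm e => by
    obtain ⟨u, hu⟩ := h.exists_pi v
    have h3 : ∀ a ∈ top J, a.1 ⬝ᵥ u = 2 * bf (J *ᵥ a.2) v := fun a ha => by
      rw [ha.2, hu, bf_sub_right, bf_smul_right, bf_smul_right, bf_comm _ β, h.bJ, mul_zero, sub_zero]
    obtain ⟨a, ha, rfl⟩ := h.exists_top hm ((h1 m hm).1 e).1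
    exact (mul_eq_zero.1 ((h3 a ha).symm.trans (H u (fun b hb e' => by rw [h3 b hb.1, hv _ hb.1.1 (h2 b hb) e', mul_zero]) a
      (mem_lev.2 ⟨ha, ((h1 _ hm).1 e).2⟩)))).resolve_left two_ne_zero with h3 | ⟨γ, hγ, h3, h4⟩ | ⟨h3, -⟩
  · exact .inl fun a ha => h3 _ ha.1.1 (h2 a ha)
  · have h5 := perp_one (x := (2 : ℤ) • β - bf γ β • γ) hγ (by
      rw [bf_sub_right, bf_smul_right, bf_smul_right, hγ, mul_comm, sub_self]) fun a ha e => by
      rw [bf_sub_left, bf_smul_left, bf_smul_left, e, ((h1 a ha).1 ((h3 a ha).2 ((bf_comm _ _).trans e))).1]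
      simp
    have h6 : ∀ x, 2 * bf β x = bf γ β * bf γ x := fun x => by
      rw [← bf_smul_left, ← bf_smul_left, sub_eq_zero.1 h5]
    have h7 : ∀ v, bf γ (J *ᵥ v) = 0 := fun v => (mul_eq_zero.1 ((h6 _).symm.trans (by rw [h.bJ, mul_zero]))).resolve_left
      fun e => by simpa [e, show bf β β = 2 from h.rt] using h6 β
    refine .inr ⟨h.perp_top fun a ha => (ha.2 _).trans ((h1 _ ha.1).1 ((h3 _ ha.1).2 ((bf_comm _ _).trans (h7 _)))).2,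
      fun y => (h4 y).trans (dvd_of_eq ?_)⟩
    have h8 := h6 β
    have h9 := h6 η
    have h10 := h6 y
    rw [h.rt] at h8
    rw [bf_comm η β, bf_comm η γ]
    rcases (sq_eq_sq_iff_eq_or_eq_neg (a := bf γ β) (b := 2)).1 (by linarith) with e | e <;> rw [e] at h9 h10
    · rw [show bf β η = bf γ η by omega, show bf β y = bf γ y by omega]
    · rw [show bf β η = -bf γ η by omega, show bf β y = -bf γ y by omega]
      ring
  · have h4 := congrArg (bf β) h3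
    rw [bf_add_right, bf_smul_right, h.rt, h.bJ, bf_zero_right] at h4
    omega

end Fr7

end Cfsg.Agent.HZ.L.E7
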