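import Cfsg.Agent.HZ.L.SL.QI
import Cfsg.Agent.HZ.L.Pk

/-!
# HZ/L/E7: the label system of the simply connected group of type `E₇` (helper5)

The cocharacter lattice is `β^⊥` in the lattice `E₈` (along `J`), the roots are the vectors of norm `2`.
-/

set_option autoImplicit false
set_option linter.unusedSectionVars false
set_option maxHeartbeats 200000

namespace Cfsg.Agent.HZ.L.E7

open Cfsg Cfsg.Agent.DL Matrix

/-- the lattice `E₈` in the basis of the simple roots -/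
abbrev V : Type := Fin 8 → ℤ

/-- the Cartan matrix (Bourbaki numbering) -/
def C8 : Matrix (Fin 8) (Fin 8) ℤ :=
  !![2, 0, -1, 0, 0, 0, 0, 0; 0, 2, 0, -1, 0, 0, 0, 0; -1, 0, 2, -1, 0, 0, 0, 0; 0, -1, -1, 2, -1, 0, 0, 0;
    0, 0, 0, -1, 2, -1, 0, 0; 0, 0, 0, 0, -1, 2, -1, 0; 0, 0, 0, 0, 0, -1, 2, -1; 0, 0, 0, 0, 0, 0, -1, 2]

/-- the form -/
def bf (x y : V) : ℤ := x ⬝ᵥ C8 *ᵥ y

/-- the roots -/
def Rt (a : V) : Prop := bf a a = 2

variable {R : Type} [Fintype R] [DecidableEq R]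

/-- the roots in the image of `J` -/
def top (J : Matrix (Fin 8) R ℤ) : RS R := {a | Rt (J *ᵥ a.2) ∧ ∀ v, a.1 ⬝ᵥ v = bf (J *ᵥ a.2) (J *ᵥ v)}

/-- `J` identifies the lattice with `β^⊥` -/
structure Fr7 (J : Matrix (Fin 8) R ℤ) (β : V) : Prop where
  rt : Rt β
  inj : ∀ v, J *ᵥ v = 0 → v = 0
  img : ∀ x, (∃ v, J *ᵥ v = x) ↔ bf β x = 0

/-- the `2`-part of `c ^ 2` is trivial on the coroots -/
def Sq (Ψ : RS R) (c : Lb R) : Prop := ∃ n, Odd n ∧ ∀ a ∈ Ψ, chr a.2 c ^ (2 * n) = 1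

/-- equal on the central cocharacters -/
def EqP (Ψ : RS R) (c c' : Lb R) : Prop := ∀ v, Perp Ψ v → chr v c = chr v c'

/-- one step of the relation -/
def Stp (Ψ : RS R) (c c' : Lb R) : Prop := Cj Ψ c c' ∨
  (∃ lam, ¬ Ex (lev Ψ lam) ∧ Sq (lev Ψ lam) c ∧ Sq (lev Ψ lam) c' ∧ EqP (lev Ψ lam) c c') ∨
  (∀ v, Perp Ψ v → v = 0) ∧ Gd c ∧ Gd c'

/-- **the label system** -/
def L : LS where
  adm {R} _ _ Ψ _ := ∃ (J : Matrix (Fin 8) R ℤ) (β : V) (lam : Vec R), Fr7 J β ∧ Ψ = lev (top J) lam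
  rel Ψ := Relation.EqvGen (Stp Ψ)
  ht _ _ _ := False

/-- the standard Levi subsystems of `E₈` -/
def sl (K : Set (Fin 8)) : RS (Fin 8) := {a | a ∈ top (1 : Matrix (Fin 8) (Fin 8) ℤ) ∧ ∀ i, i ∉ K → a.2 i = 0}

/-- the standard Levi subsystems which do not contain `E₆` are of exact type -/
def BoxEx : Prop := ∀ K : Set (Fin 8), (∃ i : Fin 8, i.1 < 6 ∧ i ∉ K) → Ex (sl K)

/-- the row from the result for the family -/
def BoxRow : Prop := (∀ (p : ℕ) [Fact p.Prime], p ≠ 2 → Res p L) → Row (ODD.ChevO Lie.chevE7)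

end Cfsg.Agent.HZ.L.E7
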