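import Cfsg.Agent.HZ.L.E7.Qi
import Cfsg.Agent.HZ.L.E7.Ex

/-!
# HZ/L/E7: `Fm p L` (helper5)
-/

set_option autoImplicit false
set_option linter.unusedSectionVars false
set_option maxHeartbeats 400000

namespace Cfsg.Agent.HZ.L.E7

open Cfsg Cfsg.Agent.DL Cfsg.Agent.DL.PP Cfsg.Agent.KZ.Lie Matrix

section Comb

variable {R : Type} [Fintype R] [DecidableEq R] {Ψ : RS R} {A : Mat R} {c c' : Lb R} {J : Matrix (Fin 8) R ℤ} {β : V}
  {lam x : Vec R} {e : ℕ}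

theorem Qv_WW (hA : A ∈ WW Ψ) {v : Vec R} (hv : v ∈ Qv Ψ) : A *ᵥ v ∈ Qv Ψ := by
  induction hA using Submonoid.closure_induction generalizing v with
  | mem y hy =>
    obtain ⟨a, ha, rfl⟩ := hy
    rw [rfm_vec]
    exact Submodule.sub_mem _ hv (Submodule.smul_mem _ _ (Submodule.subset_span ⟨a, ha, rfl⟩))
  | one => rwa [one_mulVec]
  | mul y z _ _ hy hz => rw [← mulVec_mulVec]; exact hy (hz hv)

theorem sub_Qv {N : ℤ} (h : ∀ a ∈ Ψ, N ∣ a.1 ⬝ᵥ x) (hA : A ∈ WW Ψ) : ∃ u ∈ Qv Ψ, A *ᵥ x = x + N • u := by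
  induction hA using Submonoid.closure_induction with
  | mem y hy =>
    obtain ⟨a, ha, rfl⟩ := hy
    obtain ⟨d, hd⟩ := h a ha
    exact ⟨-(d • a.2), neg_mem (Submodule.smul_mem _ _ (Submodule.subset_span ⟨a, ha, rfl⟩)), by
      rw [rfm_vec, hd, mul_smul, smul_neg, sub_eq_add_neg]⟩
  | one => exact ⟨0, zero_mem _, by rw [one_mulVec, smul_zero, add_zero]⟩
  | mul y z hy' _ hy hz =>
    obtain ⟨u, h1, hu⟩ := hy
    obtain ⟨v, h2, hv⟩ := hz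
    exact ⟨u + y *ᵥ v, add_mem h1 (Qv_WW hy' h2), by rw [← mulVec_mulVec, hv, mulVec_add, hu, mulVec_smul, smul_add, add_assoc]⟩

theorem Qv_nm (hA : Nm A Ψ) {v : Vec R} (hv : v ∈ Qv Ψ) : A *ᵥ v ∈ Qv Ψ :=
  (Submodule.map_span_le A.mulVecLin _ _).2 (by
    rintro _ ⟨a, ha, rfl⟩
    obtain ⟨b, hb, e, -⟩ := hA a ha
    exact Submodule.subset_span ⟨b, hb, e.symm⟩) (Submodule.mem_map_of_mem hv)

theorem ex_empty : Ex (∅ : RS R) :=
  have : IsEmpty (std Kd.D (Fin.elim0 : Fin 0 → ℕ)) := ⟨by rintro ⟨_, ⟨i, -⟩ | ⟨i, -⟩ | ⟨i, -⟩⟩ <;> exact i.elim0⟩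
  ⟨0, .D, Fin.elim0, ⟨Equiv.equivOfIsEmpty _ _, fun a => a.2.elim⟩, .inl (by simp)⟩

theorem eqP_of_cj (h : Cj Ψ c c') : EqP Ψ c c' := fun v hv => h.elim fun _ h => by rw [← h.2, hv.fix h.1]

theorem Sq.cj (h : Sq Ψ c) (e : Cj Ψ c' c) : Sq Ψ c' := by
  obtain ⟨n, hn, h⟩ := h
  obtain ⟨A, hA, e⟩ := e
  refine ⟨n, hn, fun a ha => ?_⟩
  rw [← e, ← map_pow, tl_of_cor (fun b hb => (map_pow _ _ _).trans (h b hb)) hA, map_pow, h a ha]

theorem gd_of_eq {n : ℕ} (hn : Odd n) (e : c ^ (2 * n) = c' ^ (2 * n)) (h : Gd c) : Gd c' := h.elim fun m hm =>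
  ⟨n * m, hn.mul hm.1, by
    rw [show 4 * (n * m) = 2 * n * (2 * m) by ring, pow_mul, ← e, ← pow_mul, show 2 * n * (2 * m) = 4 * m * n by ring, pow_mul,
      hm.2, one_pow]⟩

/-- the values of a label of finite order which are fixed by `σ` -/
theorem sq_of_fix {p : ℕ} (hc : Fo p c) {σ : ℂ ≃+* ℂ} (hσ : Sg σ) :
    ∃ m, Odd m ∧ ∀ v (n : ℕ), chr v c ^ n = chr v (gal σ c) ^ n → chr v c ^ (n * (2 * m)) = 1 := by
  obtain ⟨n, hn, h1⟩ := hc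
  obtain ⟨e, m, hm, rfl⟩ := Nat.exists_eq_two_pow_mul_odd (n := n) fun e => hn (e ▸ dvd_zero p)
  refine ⟨m, hm, fun v n h => ?_⟩
  rw [chr_gal, ← map_pow (Units.map _)] at h
  rw [pow_mul]
  exact sg_pow_eq hσ (congrArg Units.val h).symm e (by rw [← pow_mul, mul_comm, pow_mul, ← map_pow, h1, map_one, one_pow])

namespace Fr7

variable (h : Fr7 J β)
include h

theorem iy (H : ∀ u, (∀ a ∈ lev (top J) lam, (2 : ℤ) ^ e ∣ a.1 ⬝ᵥ x → a.1 ⬝ᵥ u = 0) → Perp (lev (top J) lam) u) :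
    (∀ a ∈ lev (top J) lam, (2 : ℤ) ^ e ∣ 2 * (a.1 ⬝ᵥ x)) ∨ lam = 0 ∧ ∀ y, (2 : ℤ) ^ e ∣ 4 * bf (J *ᵥ x) y := by
  refine (h.cs_one (η := J *ᵥ x) fun u hu => H u fun a ha e => hu a ha (by rwa [bf_comm, ← ha.1.2])).imp
    (fun e a ha => by rw [ha.1.2, bf_comm]; exact e a ha) fun e => ⟨e.1, fun y => ?_⟩
  simpa only [bf_comm _ β, h.bJ, mul_zero, zero_mul, sub_zero] using e.2 y

theorem dvd_Qv (hΨ : Ψ ⊆ top J) {n : ℤ} (H : ∀ a ∈ Ψ, n ∣ 2 * (a.1 ⬝ᵥ x)) {u : Vec R} (hu : u ∈ Qv Ψ) :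
    n ∣ 2 * bf (J *ᵥ x) (J *ᵥ u) := by
  induction hu using Submodule.span_induction with
  | mem a ha => obtain ⟨a, ha, rfl⟩ := ha; rw [bf_comm, ← (hΨ ha).2]; exact H a ha
  | zero => simp [bf_zero_right]
  | add a b _ _ ha hb => rw [mulVec_add, bf_add_right, mul_add]; exact ha.add hb
  | smul m a _ ha => rw [mulVec_smul, bf_smul_right, mul_left_comm]; exact ha.mul_left m

theorem exists_div {n : ℤ} (hn : n ≠ 0) (H : ∀ y, n ∣ bf (J *ᵥ x) y) : ∃ m, x = n • m := by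
  obtain ⟨y, hy⟩ := exists_dvd H
  obtain ⟨m, rfl⟩ := (h.img y).2 ((mul_eq_zero.1 (by rw [← bf_smul_right, ← hy, h.bJ])).resolve_left hn)
  exact ⟨m, h.ext (by rw [hy, mulVec_smul])⟩

theorem four_top (H : ∀ u, (∀ a ∈ lev (top J) 0, (2 : ℤ) ^ e ∣ a.1 ⬝ᵥ x → a.1 ⬝ᵥ u = 0) → Perp (lev (top J) 0) u) :
    ∃ m, (4 : ℤ) • x = (2 : ℤ) ^ e • m := by
  refine h.exists_div (pow_ne_zero e two_ne_zero) fun y => ?_
  rw [mulVec_smul, bf_smul_left]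
  refine (h.iy H).elim (fun e => ?_) fun e => e.2 y
  obtain ⟨u, hu⟩ := h.exists_pi y
  have h1 := h.dvd_Qv (lev_sub _ _) e (u := u) (by rw [lev_zero]; exact h.Qv_top u)
  rwa [hu, bf_sub_right, bf_smul_right, bf_smul_right, bf_comm _ β, h.bJ, mul_zero, sub_zero, ← mul_assoc] at h1

theorem four_pr {g : Vec R} (hg : Rt (J *ᵥ g)) (H : ∀ a ∈ pr J (J *ᵥ g), (2 : ℤ) ^ e ∣ 2 * (a.1 ⬝ᵥ x)) :
    ∃ m ∈ Qv (pr J (J *ᵥ g)), (4 : ℤ) • x = (2 : ℤ) ^ e • m + (2 * bf (J *ᵥ g) (J *ᵥ x)) • g := by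
  obtain ⟨m, hm⟩ := h.exists_div (x := (4 : ℤ) • x - (2 * bf (J *ᵥ g) (J *ᵥ x)) • g) (pow_ne_zero e two_ne_zero) fun y => by
    obtain ⟨u, hu⟩ := h.exists_pi y
    have h1 := h.dvd_Qv (fun _ e => e.1) H (h.Qv_pr hg (.inl (h.bJ g)) (v := u - bf (J *ᵥ g) y • g) (by
      rw [mulVec_sub, mulVec_smul, hu, bf_sub_right, bf_sub_right, bf_smul_right, bf_smul_right, bf_smul_right, hg,
        bf_comm _ β, h.bJ]
      ring))
    convert h1 using 1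
    simp only [mulVec_sub, mulVec_smul, hu, bf_sub_right, bf_sub_left, bf_smul_right, bf_smul_left, bf_comm _ β, h.bJ,
      bf_comm (J *ᵥ x) (J *ᵥ g)]
    ring
  refine ⟨m, h.Qv_pr hg (.inl (h.bJ g)) ((mul_eq_zero.1 ?_).resolve_left (pow_ne_zero e two_ne_zero)), sub_eq_iff_eq_add.1 hm⟩
  rw [← bf_smul_right, ← mulVec_smul, ← hm, mulVec_sub, mulVec_smul, mulVec_smul, bf_sub_right, bf_smul_right, bf_smul_right, hg]
  ring

theorem ne_zero_of {g : Vec R} (hg : Rt (J *ᵥ g)) (e : lev (top J) lam = pr J (J *ᵥ g)) : lam ≠ 0 := by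
  rintro rfl
  obtain ⟨a, ha, e'⟩ := h.exists_top hg (h.bJ g)
  have h1 := (((lev_zero _).symm.trans e).le ha).2
  rw [e', hg] at h1
  exact two_ne_zero h1

end Fr7

end Comb

variable {p : ℕ} [Fact p.Prime] {k : Type} [Field k] [CharP k p] [IsAlgClosed k] {Y : Type} [Group Y] {N : Type}
  [Fintype N] [DecidableEq N] {ρ : Y →* GL N k} {F : MulAut Y} {G : Subgroup Y} {D : Datum p ρ F G}
  {j : ℕ} {B : Mat D.R} {w : D.W} {c c' : Lbl D} {J : Matrix (Fin 8) D.R ℤ} {β : V} {lam nu : Vec D.R}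

theorem chr_N (hc : Fx D w c) (v : Vec D.R) : chr ((D.Wm w * D.Mx - 1) *ᵥ v) c = 1 := by
  rw [sub_mulVec, one_mulVec, chr_sub, hc, mul_inv_cancel]

theorem one_of_odd (hc : Fx D w c) {e m : ℕ} {x v : Vec D.R} (hv : (D.Wm w * D.Mx - 1) *ᵥ x = (2 : ℤ) ^ e • v) (hm : Odd m)
    (h : chr v c ^ m = 1) : chr v c = 1 := by
  have h7 : chr v c ^ 2 ^ e = 1 := by rw [← chr_nsmul, ← natCast_zsmul, Nat.cast_pow, Nat.cast_ofNat, ← hv, chr_N hc]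
  rw [← pow_one (chr v c), ← (Nat.Coprime.pow_left e (Nat.coprime_two_left.2 hm)).gcd_eq_one]
  exact pow_gcd_eq_one.2 ⟨h7, h⟩

/-- `LF` if the squares of the isolated elements are central -/
theorem lf_sq (hI : ∀ (e : ℕ) (x : Vec D.R), (∀ u, (∀ a ∈ rts D, (2 : ℤ) ^ e ∣ a.1 ⬝ᵥ x → a.1 ⬝ᵥ u = 0) → Perp (rts D) u) →
    ∀ a ∈ rts D, (2 : ℤ) ^ e ∣ 2 * (a.1 ⬝ᵥ x)) (hc : Fx D w c) (hg : Gd c) (hs : Sq (rts D) c) :
    LF (rts D) D.Mx (D.Wm w) c := by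
  intro A hA e x h1 h2
  have h4 := hI e x h2
  refine ⟨fun a ha => (h4 a ha).trans ⟨2, by ring⟩, fun v hv => ?_⟩
  obtain ⟨w', rfl⟩ := mem_WW.1 hA
  choose u hu using h1
  obtain ⟨u', h3, hu'⟩ := sub_Qv (x := (2 : ℤ) • x) (fun a ha => by rw [dotProduct_smul]; exact h4 a ha) (Wm_mem (w * w'⁻¹))
  have h5 : (D.Wm w' * D.Mx) *ᵥ x = x + (2 : ℤ) ^ e • u := by
    rw [← sub_eq_iff_eq_add', ← one_mulVec x, mulVec_mulVec, mul_one, ← sub_mulVec]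
    exact funext hu
  have h6 : (D.Wm w * D.Mx - 1) *ᵥ ((4 : ℤ) • x) = (2 : ℤ) ^ e • ((2 : ℤ) • u' + (4 : ℤ) • D.Wm (w * w'⁻¹) *ᵥ u) := by
    rw [mulVec_smul] at hu'
    rw [mulVec_smul, sub_mulVec, one_mulVec, show D.Wm w = D.Wm (w * w'⁻¹) * D.Wm w' by rw [← D.Wm_mul, inv_mul_cancel_right],
      mul_assoc, ← mulVec_mulVec, h5, mulVec_add, mulVec_smul]
    linear_combination (exp := 1) (2 : ℤ) • hu'
  obtain ⟨m, hm, h8⟩ := hg
  obtain ⟨n, hn, h9⟩ := hs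
  refine one_of_odd hc hv (hm.mul hn) ?_
  have h10 := chr_Qv (fun a ha => (map_pow _ _ _).trans (h9 a ha)) h3
  rw [map_pow] at h10
  rw [← smul_right_injective _ (pow_ne_zero e two_ne_zero) (h6.symm.trans hv), chr_add, chr_zsmul, chr_zsmul, mul_pow,
    zpow_ofNat, zpow_ofNat, ← pow_mul, ← pow_mul, ← mul_assoc 4, pow_mul _ (4 * m), ← map_pow _ _ (4 * m), h8, map_one, one_pow,
    mul_one, mul_comm m, ← mul_assoc, pow_mul, h10, one_pow]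

theorem lf_top (h : Fr7 J β) (e0 : rts D = lev (top J) 0) (hc : Fx D w c) : LF (rts D) D.Mx (D.Wm w) c := by
  intro A _ e x _ h2
  obtain ⟨m, hm⟩ := h.four_top (e0 ▸ h2)
  refine ⟨fun a _ => ⟨a.1 ⬝ᵥ m, by rw [← smul_eq_mul, ← dotProduct_smul, hm, dotProduct_smul, smul_eq_mul]⟩, fun v hv => ?_⟩
  rw [hm, mulVec_smul] at hv
  rw [← smul_right_injective _ (pow_ne_zero e two_ne_zero) hv, chr_N hc]

theorem perp_Mx {v : Vec D.R} (hv : Perp (rts D) v) : Perp (rts D) (D.Mx *ᵥ v) := by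
  rintro _ ⟨b, hb, rfl⟩
  obtain ⟨a, ha, rfl⟩ := gw_surj 1 hb
  have h1 := wt_gw 1 ha
  rw [D.Wm_one, one_mul] at h1
  rw [dotProduct_mulVec, h1, smul_dotProduct, hv _ (rt_mem ha), smul_zero]

theorem lf_six (h : Fr7 J β) (e0 : rts D = lev (top J) lam) (hS : St D j B) (hc : Fx D w c) (hg : Gd c) {n : ℕ} (hn : Odd n)
    (hs : Sp6 J (rts D) (c ^ n)) : LF (rts D) D.Mx (D.Wm w) c := by
  intro A hA e x h1 h2
  obtain ⟨g, hg', e1, hs⟩ := hs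
  have h3 := ((h.iy (e0 ▸ h2)).resolve_right fun e => h.ne_zero_of hg' (e0.symm.trans e1) e.1)
  rw [← e0] at h3
  refine ⟨fun a ha => (h3 a ha).trans ⟨2, by ring⟩, fun v hv => ?_⟩
  obtain ⟨m, h4, h5⟩ := h.four_pr hg' (e1 ▸ h3)
  obtain ⟨w', rfl⟩ := mem_WW.1 hA
  choose u hu using h1
  have h6 : (D.Wm w' * D.Mx - 1) *ᵥ x = (2 : ℤ) ^ e • u := funext hu
  have h7 : Perp (rts D) g := fun a ha => by rw [(e1.le ha).1.2, bf_comm, (e1.le ha).2]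
  have h8 : ∀ w, (D.Wm w * D.Mx - 1) *ᵥ g = D.Mx *ᵥ g - g := fun w => by
    rw [sub_mulVec, one_mulVec, ← mulVec_mulVec, (perp_Mx h7).fix (Wm_mem w)]
  have h9 : (2 : ℤ) ^ e • ((4 : ℤ) • u - (D.Wm w' * D.Mx - 1) *ᵥ m) = (2 * bf (J *ᵥ g) (J *ᵥ x)) • (D.Mx *ᵥ g - g) := by
    rw [smul_sub, smul_comm, ← h6, ← mulVec_smul, h5, mulVec_add, mulVec_smul, mulVec_smul, h8, add_sub_cancel_left]
  have h10 : bf (J *ᵥ g) (J *ᵥ ((D.Wm w' * D.Mx - 1) *ᵥ m)) = 0 := by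
    have h11 : (D.Wm w' * D.Mx - 1) *ᵥ m ∈ Qv (rts D) := by
      rw [← e1] at h4
      rw [sub_mulVec, one_mulVec, hS.WM, smul_mulVec]
      exact Submodule.sub_mem _ (Submodule.smul_mem _ _ (Qv_nm (hS.nm w') h4)) h4
    have h12 := h.dvd_Qv (x := g) (n := 0) (e0.le.trans (lev_sub _ _)) (fun a ha => by rw [h7 a ha, mul_zero]) h11
    exact (mul_eq_zero.1 (zero_dvd_iff.1 h12)).resolve_left two_ne_zero
  have h11 : (4 : ℤ) • u - (D.Wm w' * D.Mx - 1) *ᵥ m = (2 * bf (J *ᵥ g) (J *ᵥ u)) • g := by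
    refine sub_eq_zero.1 (h.perp_pr hg' (.inl (h.bJ g)) (fun a ha => ?_) ?_)
    · have h12 := congrArg (a.1 ⬝ᵥ ·) h9
      simp only [dotProduct_smul, dotProduct_sub a.1 (D.Mx *ᵥ g), perp_Mx h7 a (e1.ge ha), h7 a (e1.ge ha), sub_zero,
        smul_zero] at h12
      rw [dotProduct_sub, (smul_eq_zero.1 h12).resolve_left (pow_ne_zero e two_ne_zero), dotProduct_smul, h7 a (e1.ge ha),
        smul_zero, sub_zero]
    · rw [mulVec_sub, mulVec_sub, mulVec_smul, mulVec_smul, bf_sub_right, bf_sub_right, bf_smul_right, bf_smul_right, h10, hg']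
      ring
  have h12 : v = (D.Wm w * D.Mx - 1) *ᵥ m + (2 * bf (J *ᵥ g) (J *ᵥ u)) • g :=
    smul_right_injective _ (pow_ne_zero e (two_ne_zero (α := ℤ))) (by
      beta_reduce
      rw [← hv, h5, mulVec_add, mulVec_smul, mulVec_smul, h8, smul_add, ← h11, h9])
  obtain ⟨l, hl, h13⟩ := hg
  obtain ⟨y, y1, y2⟩ := exists_two h.rt hg' (.inl (h.bJ g))
  obtain ⟨y, rfl⟩ := (h.img y).2 y1
  have h14 := congrArg (· ^ l) (hs y)
  simp only [y2, mul_one, ← map_pow, ← pow_mul, zpow_ofNat] at h14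
  rw [show n * 4 * l = 4 * l * n by ring, pow_mul, h13, one_pow, map_one, map_pow] at h14
  refine one_of_odd hc hv (hn.mul hl) ?_
  rw [h12, chr_add, chr_N hc, one_mul, chr_zsmul, ← zpow_natCast, ← _root_.zpow_mul,
    show 2 * bf (J *ᵥ g) (J *ᵥ u) * (n * l : ℕ) = (n * 2 * l : ℕ) * bf (J *ᵥ g) (J *ᵥ u) by push_cast; ring, _root_.zpow_mul,
    zpow_natCast, ← h14, _root_.one_zpow]

/-- the relation on a proper Levi subsystem -/
theorem rel_lev (h : Fr7 J β) (h0 : nu ≠ 0) (hs : lev (top J) nu ⊆ rts D) (e : L.rel (lev (top J) nu) c c') :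
    Cj (lev (top J) nu) c c' ∨ ∃ δ, Rt δ ∧ bf β δ = 1 ∧ lev (top J) nu = pr J δ ∧ Sq (pr J δ) c ∧ Sq (pr J δ) c' ∧
      EqP (pr J δ) c c' := by
  induction e with
  | rel c c' e =>
    rcases e with e | ⟨mu, e1, e2⟩ | e
    · exact .inl e
    · obtain ⟨la, e3⟩ := h.lev_lev nu mu
      have e4 := e3.ge.trans (lev_sub _ _)
      rw [e3] at e1 e2
      rcases h.cls boxEx la with e5 | rfl | ⟨δ, d1, d2, e5⟩
      · exact absurd e5 e1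
      · exact absurd (h.perp_top fun a ha => (e4 ((lev_zero _).ge ha)).2) h0
      · exact .inr ⟨δ, d1, d2, (h.e6_max d1 d2 (e5.ge.trans e4)).resolve_left h0, e5 ▸ e2⟩
    · exact absurd (e.1 nu fun _ ha => ha.2) h0
  | refl c => exact .inl (.refl _ c)
  | symm c c' _ ih =>
    exact ih.imp (Cj.symm' hs) fun ⟨δ, d1, d2, d3, d4, d5, d6⟩ => ⟨δ, d1, d2, d3, d5, d4, fun v hv => (d6 v hv).symm⟩
  | trans c c' c'' _ _ i1 i2 =>
    rcases i1 with i1 | ⟨δ, d1, d2, d3, d4, d5, d6⟩ <;> rcases i2 with i2 | ⟨δ', f1, f2, f3, f4, f5, f6⟩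
    · exact .inl (i1.trans i2)
    · exact .inr ⟨δ', f1, f2, f3, f4.cj (f3 ▸ i1), f5, fun v hv => (eqP_of_cj (f3 ▸ i1) v hv).trans (f6 v hv)⟩
    · exact .inr ⟨δ, d1, d2, d3, d4, d5.cj (d3 ▸ i2.symm' hs), fun v hv => (d6 v hv).trans (eqP_of_cj (d3 ▸ i2) v hv)⟩
    · rw [f3.symm.trans d3] at f5 f6
      exact .inr ⟨δ, d1, d2, d3, d4, f5, fun v hv => (d6 v hv).trans (f6 v hv)⟩

theorem ctl (h : Fr7 J β) (e0 : rts D = lev (top J) lam) (hS : St D j B) (hc : Fx D w c) (hq : ¬ QI (rts D) c)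
    (hg : lam = 0 → ¬ Gd c) : Ctl p L (rts D) (D.Wm w * B) c := by
  obtain ⟨l₀, h1, h2, h3⟩ := ctl_of_not_qi (L := ⟨fun _ _ => True, Cj, fun _ _ _ => False⟩) (fun _ _ _ _ e => e) hS hc hq
  refine ⟨l₀, h1, h2, fun mu hmu hne c' c'' A hA e1 e2 e3 e4 => ?_⟩
  obtain ⟨nu, e5⟩ := h.lev_lev lam mu
  rw [← e0] at e5
  have h4 : lev (top J) nu ⊆ rts D := e5.ge.trans (lev_sub _ _)
  have h0 : nu ≠ 0 := fun e => hne ((lev_sub _ _).antisymm (by rw [e5, e, lev_zero, e0]; exact lev_sub _ _))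
  have e6 := rel_lev h h0 h4 (e5 ▸ e1)
  have e7 := rel_lev h h0 h4 (e5 ▸ e2)
  by_cases h5 : ∃ δ, Rt δ ∧ bf β δ = 1 ∧ lev (top J) nu = pr J δ ∧ Sq (pr J δ) c
  · obtain ⟨δ, d1, d2, d3, d4⟩ := h5
    have h6 : ∀ d, (Cj (lev (top J) nu) c d ∨ ∃ δ, Rt δ ∧ bf β δ = 1 ∧ lev (top J) nu = pr J δ ∧ Sq (pr J δ) c ∧
        Sq (pr J δ) d ∧ EqP (pr J δ) c d) → ∃ n, Odd n ∧ c ^ (2 * n) = d ^ (2 * n) ∧ ∀ a ∈ pr J δ, chr a.2 (c ^ (2 * n)) = 1 := by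
      rintro d (e | ⟨δ', -, -, f3, -, f5, f6⟩)
      · exact h.e6_eq d1 d2 d4 (d4.cj (d3 ▸ e.symm' h4)) (eqP_of_cj (d3 ▸ e))
      · rw [f3.symm.trans d3] at f5 f6
        exact h.e6_eq d1 d2 d4 f5 f6
    obtain ⟨n, hn, n1, n2⟩ := h6 _ e6
    obtain ⟨m, hm, m1, -⟩ := h6 _ e7
    obtain rfl := (h.e6_max d1 d2 (d3.ge.trans (h4.trans e0.le))).resolve_right fun e =>
      hne (e5.trans (d3.trans (e0.trans e).symm))
    rw [lev_zero] at e0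
    obtain ⟨v₀, hv⟩ := h.exists_v0 d1 d2
    have h7 : Tl A (c ^ (2 * n * m)) (c ^ (2 * n * m)) := by
      have h8 := e3.pow (2 * n * m)
      rwa [pow_mul c', ← n1, ← pow_mul, mul_right_comm, pow_mul c'', ← m1, ← pow_mul, mul_right_comm] at h8
    have h8 := h.e6_fix d1 d2 hv (fun a ha => by rw [pow_mul, map_pow, n2 a ha, one_pow])
      (fun e => hg rfl ⟨n * m, hn.mul hm, by rw [← e, ← pow_mul]; congr 1; ring⟩) (e0 ▸ hA) h7
    obtain ⟨u, rfl⟩ := mem_WW.1 hA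
    rw [e5, d3, h.pr_eq d1 d2 hv, ← e0]
    exact mem_WW_lev.2 ⟨u, h8, rfl⟩
  · exact h3 mu hmu hne c' c'' A hA (e5 ▸ e6.resolve_right fun ⟨δ, d1, d2, d3, d4, _⟩ => h5 ⟨δ, d1, d2, d3, d4⟩)
      (e5 ▸ e7.resolve_right fun ⟨δ, d1, d2, d3, d4, _⟩ => h5 ⟨δ, d1, d2, d3, d4⟩) e3 e4

theorem ok : OK p L := fun D _ _ _ _ ⟨J, β, lam, h, e0⟩ =>
  { symm := fun _ _ => .symm _ _
    trans := fun _ _ _ => .trans _ _ _
    cj := fun _ _ _ e => .rel _ _ (.inl (cj_iff.2 ⟨_, e⟩))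
    adm := fun _ mu _ => (h.lev_lev lam mu).elim fun nu e => ⟨J, β, nu, h, e0 ▸ e⟩
    mon := fun _ mu _ c c' => Relation.EqvGen.mono (r := Stp (lev (rts D) mu)) (p := Stp (rts D)) (fun _ _ e =>
      e.imp (·.mono (lev_sub _ _)) fun e => e.imp (fun ⟨nu, e⟩ => (lev_lev mu nu).elim fun la e' => ⟨la, e' ▸ e⟩) fun e =>
        ⟨fun v hv => e.1 v fun a ha => hv a ha.1, e.2⟩) c c' }

theorem b1 : AllD p fun D => ∀ j B, St D j B → L.adm (rts D) B → Ex (rts D) ∨ B1 D L B := by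
  rintro _ _ _ _ _ _ _ _ _ _ _ _ D _ j B hS ⟨J, β, lam, h, e0⟩
  refine or_iff_not_imp_left.2 fun hE f χ _ _ hC hN w c w' c' h1 h2 => ?_
  rcases (h.cls boxEx lam).resolve_left (e0 ▸ hE) with rfl | ⟨δ, d1, d2, d3⟩
  · have h3 : ∀ w c, Has f χ w c → Gd c := fun w c e => by_contra fun hg => hN w c e (ctl h e0 hS e.fx (fun hq => by
      rcases h.qi e.fo (e0 ▸ hq) with h3 | h3 | ⟨_, -, _, h3, h4, -⟩
      exacts [hg (h.gd_of_sq (lev_zero (top J) ▸ h3)), hg h3.2, h.ne_zero_of h3 h4 rfl]) fun _ => hg)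
    exact .rel _ _ (.inr (.inr ⟨fun v hv => h.perp_top (lev_zero (top J) ▸ e0 ▸ hv), h3 _ _ h1, h3 _ _ h2⟩))
  · obtain ⟨v₀, hv⟩ := h.exists_v0 d1 d2
    obtain ⟨x, x1, x2⟩ := exists_two h.rt d1 (.inr d2)
    have h0 : lam ≠ 0 := by
      rintro rfl
      obtain ⟨x, rfl⟩ := (h.img x).2 x1
      have h3 := congrArg (fun v => bf δ (J *ᵥ v)) (h.perp_top (v := v₀) fun a ha =>
        ((h.pr_eq d1 d2 hv).le (d3.le ((lev_zero _).ge ha))).2)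
      simp only [hv, bf_sub_right, bf_smul_right, show bf δ δ = 2 from d1, bf_comm δ β, d2, mulVec_zero, bf_zero_right] at h3
      omega
    have h3 : ∀ w c, Has f χ w c → Sq (rts D) c := fun w c e => by_contra fun hg => hN w c e (ctl h e0 hS e.fx (fun hq => by
      rcases h.qi e.fo (e0 ▸ hq) with h3 | h3 | ⟨_, -, g, h3, h4, -⟩
      · exact hg (e0 ▸ h3)
      · exact h0 h3.1
      · have h5 := sub_eq_zero.1 (h.perp_pr d1 (.inr d2) (fun a ha => by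
          have h5 := h4.le (d3.ge ha)
          rw [dotProduct_sub, dotProduct_smul, dotProduct_smul, ((h.pr_eq d1 d2 hv).le ha).2, h5.1.2, bf_comm, h5.2]
          simp) (h.three d1 d2 hv g))
        have h6 := congrArg (fun v => bf (J *ᵥ g) (J *ᵥ v)) h5
        simp only [mulVec_smul, bf_smul_right, h.dot_v0 d1 d2 hv, show bf (J *ᵥ g) (J *ᵥ g) = 2 from h3] at h6
        have h7 : bf δ (J *ᵥ g) < 2 := by nlinarith
        have h8 : -2 < bf δ (J *ᵥ g) := by nlinarith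
        generalize bf δ (J *ᵥ g) = t at h6 h7 h8
        interval_cases t <;> omega) fun e => absurd e h0)
    have hne : (rts D).Nonempty := Set.nonempty_iff_ne_empty.2 fun e => hE (e ▸ ex_empty)
    obtain ⟨A, hA, h4⟩ := hC ∅ (rts D) ⟨(Set.empty_union _).symm, fun _ e => e.elim, fun _ e => e.elim, hS.nm'⟩ hne
      ex_empty w c w' c' h1 h2
    refine .rel _ _ (.inr (.inl ⟨0, ?_⟩))
    rw [lev_zero]
    exact ⟨hE, h3 _ _ h1, h3 _ _ h2, fun v hv => by rw [← h4 v hv, hv.fix (WW_mono (Set.empty_subset _) hA)]⟩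

theorem gd_iff (h : Fr7 J β) (e0 : rts D = lev (top J) lam) (e : L.rel (rts D) c c') : Gd c ↔ Gd c' := by
  induction e with
  | rel c c' e =>
    rcases e with e | ⟨mu, e1, e2, e3, e4⟩ | e
    · exact ⟨fun hg => (e.symm' subset_rfl).elim fun _ e => hg.tl e.2, fun hg => e.elim fun _ e => hg.tl e.2⟩
    · obtain ⟨nu, e5⟩ := h.lev_lev lam mu
      rw [e0, e5] at e1 e2 e3 e4
      rcases (h.cls boxEx nu).resolve_left e1 with rfl | ⟨δ, d1, d2, d3⟩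
      · rw [lev_zero] at e2 e3
        exact iff_of_true (h.gd_of_sq e2) (h.gd_of_sq e3)
      · obtain ⟨n, hn, e6, -⟩ := h.e6_eq d1 d2 (d3 ▸ e2) (d3 ▸ e3) (d3 ▸ e4)
        exact ⟨gd_of_eq hn e6, gd_of_eq hn e6.symm⟩
    · exact iff_of_true e.2.1 e.2.2
  | refl c => rfl
  | symm _ _ _ ih => exact ih.symm
  | trans _ _ _ _ _ i1 i2 => exact i1.trans i2

theorem tri : AllD p fun D => ∀ j B, St D j B → L.adm (rts D) B → Tri D L B := by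
  rintro _ _ _ _ _ _ _ _ _ _ _ _ D _ j B hS ⟨J, β, lam, h, e0⟩
  refine ⟨fun c c' e _ _ => (gd_iff h e0 e).1, fun w c hc hg σ hσ e => .inl (ctl h e0 hS hc (fun hq => hg ?_) fun _ => hg),
    fun w c hc hg => ?_⟩
  · have h1 := h.qi (fo_of_fx hc) (e0 ▸ hq)
    rcases eq_or_ne lam 0 with rfl | h0
    · rcases h1 with h1 | h1 | ⟨_, -, _, h1, h2, -⟩
      exacts [h.gd_of_sq (lev_zero (top J) ▸ h1), h1.2, absurd rfl (h.ne_zero_of h1 h2)]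
    obtain ⟨m, hm, h2⟩ := sq_of_fix (fo_of_fx hc) hσ
    rcases rel_lev h h0 e0.ge (e0 ▸ e) with h3 | ⟨δ, d1, d2, -, d4, d5, d6⟩
    · rcases h1 with ⟨n, hn, h1⟩ | h1 | ⟨n, hn, g, h4, h5, h6⟩
      · exact gd_of_cor (fo_of_fx hc) hσ h3 fun a ha e => (Nat.not_even_iff_odd.2 hn) (even_iff_two_dvd.2
          (Nat.dvd_of_mul_dvd_mul_left two_pos (e.trans (orderOf_dvd_of_pow_eq_one (h1 a ha)))))
      · exact h1.2
      · have h7 := h2 g 1 (by rw [eqP_of_cj h3 g fun a ha => by rw [ha.1.2, bf_comm, (h5.le ha).2]])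
        refine ⟨n * m, hn.mul hm, eq_one_of fun v => ?_⟩
        rw [show 4 * (n * m) = n * 4 * m by ring, pow_mul, pow_mul, map_pow, map_pow, h6, map_pow, ← zpow_natCast,
          ← zpow_natCast, ← _root_.zpow_mul, ← _root_.zpow_mul, show n * (2 * bf (J *ᵥ g) (J *ᵥ v) * m) =
          (1 * (2 * m) : ℕ) * (n * bf (J *ᵥ g) (J *ᵥ v)) by push_cast; ring, _root_.zpow_mul, zpow_natCast, h7, _root_.one_zpow]
    · obtain ⟨n, hn, e6, -⟩ := h.e6_eq d1 d2 d4 d5 d6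
      exact ⟨n * m, hn.mul hm, eq_one_of fun v => by
        rw [map_pow, show 4 * (n * m) = 2 * n * (2 * m) by ring, h2 v _ (by rw [← map_pow, e6, map_pow])]⟩
  · rcases eq_or_ne lam 0 with rfl | h0
    · exact .inr (lf_top h e0 hc)
    refine or_iff_not_imp_left.2 fun hN => ?_
    rcases h.qi (lam := lam) (fo_of_fx hc) (by_contra fun hq => hN (ctl h e0 hS hc (e0 ▸ hq) fun e => absurd e h0)) with
      h1 | h1 | ⟨n, hn, h1⟩
    · exact lf_sq (fun e x H => e0 ▸ (h.iy (e0 ▸ H)).resolve_right fun e => h0 e.1) hc hg (e0 ▸ h1)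
    · exact absurd h1.1 h0
    · exact lf_six h e0 hS hc hg hn (e0 ▸ h1)

/-- **the family of `E₇`** -/
theorem fm (p : ℕ) [Fact p.Prime] : Fm p L := ⟨ok, b1, tri, fun _ _ _ _ _ _ _ _ _ _ _ _ _ _ e => e.elim⟩

theorem rowE7_of (hR : BoxRow) (h : Pk) : Row (ODD.ChevO Lie.chevE7) := hR fun p _ hp => h.res hp (fm p)

end Cfsg.Agent.HZ.L.E7
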