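import Cfsg.Agent.HZ.L.E7.E8

/-!
# HZ/L/E7: isolated `2`-elements of the Levi subsystems of `E₈` (helper5)

`Is8`, `iso8`.
-/

set_option autoImplicit false
set_option linter.unusedSectionVars false
set_option maxHeartbeats 400000

namespace Cfsg.Agent.HZ.L.E7

open Cfsg Cfsg.Agent.Tits.Roots Cfsg.Agent.LV.Lab Matrix

/-- `η / n` is isolated in the Levi subsystem `ζ^⊥` -/
def Is8 (ζ η : V) (n : ℤ) : Prop :=
  ∀ v, (∀ a, Rt a → bf a ζ = 0 → n ∣ bf η a → bf a v = 0) → ∀ a, Rt a → bf a ζ = 0 → bf a v = 0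

/-- the highest roots of the components -/
def Hi (K : Fin 8 → Bool) : Prop := ∀ i, K i = true → ∃ t ∈ L8.reverse, 0 < dg 8 t i ∧ (∀ j, K j = false → dg 8 t j = 0) ∧
  dg 8 t i ≤ 6 ∧ (∀ x ∈ L8, (∀ j, K j = false → dg 8 x j = 0) → (∀ j, dg 8 x j ≤ dg 8 t j) ∨ ∀ j, dg 8 t j = 0 ∨ dg 8 x j = 0) ∧
  (dg 8 t i = 4 → (∀ j, K j = true → 0 < dg 8 t j) ∧ (∀ j, j ≠ 7 → K j = true) ∧ (K 7 = false → i = 3))

set_option synthInstance.maxSize 2000 in
instance decHi (K : Fin 8 → Bool) : Decidable (Hi K) := by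
  unfold Hi
  infer_instance

theorem hi_chk : ∀ b0 b1 b2 b3 b4 b5 b6 b7 : Bool, Hi ![b0, b1, b2, b3, b4, b5, b6, b7] := by decide +kernel

theorem hi_all (K : Fin 8 → Bool) : Hi K := by
  rw [show K = ![K 0, K 1, K 2, K 3, K 4, K 5, K 6, K 7] from funext fun i => by fin_cases i <;> rfl]
  exact hi_chk _ _ _ _ _ _ _ _

/-- the roots of a standard Levi subsystem -/
theorem perp_iff {ζ a : V} (h : ∀ i, 0 ≤ bf ζ (sr i)) (ha : Rt a) : bf a ζ = 0 ↔ ∀ i, bf ζ (sr i) ≠ 0 → a i = 0 := by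
  rw [bf_sum]
  rcases ha.sign with e | e
  · rw [Finset.sum_eq_zero_iff_of_nonneg fun i _ => mul_nonneg (e i) (h i)]
    simp [or_iff_not_imp_right]
  · rw [Finset.sum_eq_zero_iff_of_nonpos fun i _ => mul_nonpos_of_nonpos_of_nonneg (e i) (h i)]
    simp [or_iff_not_imp_right]

/-- the conclusion -/
def Cs8 (ζ η : V) (n : ℤ) : Prop := (∀ a, Rt a → bf a ζ = 0 → n ∣ 2 * bf η a) ∨
  (∃ γ, Rt γ ∧ (∀ a, Rt a → (bf a ζ = 0 ↔ bf a γ = 0)) ∧ ∀ v, n ∣ 4 * bf η v - 2 * bf η γ * bf γ v) ∨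
  ζ = 0 ∧ ∀ v, n ∣ 4 * bf η v

theorem iso_std {ζ η : V} {e : ℕ} (h1 : ∀ i, 0 ≤ bf ζ (sr i)) (h2 : ∀ i, bf ζ (sr i) = 0 → 0 ≤ bf η (sr i))
    (h3 : ∀ a, Rt a → bf η a ≤ 2 ^ e) (h : Is8 ζ η (2 ^ e)) : Cs8 ζ η (2 ^ e) := by
  have hs : ∀ a, bf η a = ∑ i, a i * bf η (sr i) := fun a => by rw [bf_comm, bf_sum]
  by_cases h0 : ∀ i, bf ζ (sr i) = 0 → (2 : ℤ) ^ e ∣ 2 * bf η (sr i)
  · refine .inl fun a ha e => ?_
    rw [hs, Finset.mul_sum]
    refine Finset.dvd_sum fun i _ => ?_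
    by_cases h4 : bf ζ (sr i) = 0
    · rw [mul_left_comm]
      exact (h0 i h4).mul_left _
    · rw [(perp_iff h1 ha).1 e i h4, zero_mul, mul_zero]
      exact dvd_zero _
  push Not at h0
  obtain ⟨i, hi, h0⟩ := h0
  obtain ⟨t, ht, t1, t2, t3, t4, t5⟩ := hi_all (fun j => decide (bf ζ (sr j) = 0)) i (decide_eq_true hi)
  simp only [decide_eq_false_iff_not, decide_eq_true_eq] at t2 t4 t5
  have tr := rt_dg t (List.mem_reverse.1 ht)
  have t0 : ∀ j, 0 ≤ dg 8 t j := fun _ => Int.natCast_nonneg _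
  generalize dg 8 t = θ at t1 t2 t3 t4 t5 tr t0
  have hi0 : 0 < bf η (sr i) := (h2 i hi).lt_of_ne fun e => h0 (by rw [← e, mul_zero]; exact dvd_zero _)
  have h4 : ∀ a : V, (∀ j, 0 ≤ a j) → (∀ j, bf ζ (sr j) ≠ 0 → a j = 0) → ∀ j ∈ Finset.univ, 0 ≤ a j * bf η (sr j) :=
    fun a a0 a1 j _ => by
      by_cases e : bf ζ (sr j) = 0
      · exact mul_nonneg (a0 j) (h2 j e)
      · rw [a1 j e, zero_mul]
  -- the integral positive roots
  have h5 : ∀ a, Rt a → 0 ≤ a → bf a ζ = 0 → (2 : ℤ) ^ e ∣ bf η a → (∀ j, 0 < bf η (sr j) → 0 < θ j → a j = 0) ∨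
      bf η θ = 2 ^ e ∧ ∀ j, 0 < bf η (sr j) → a j = θ j := fun a ha a0 a1 a2 => by
    rw [perp_iff h1 ha] at a1
    obtain ⟨x, hx, rfl⟩ := ha.pos a0
    rcases t4 x hx a1 with h6 | h6
    · have h7 : ∀ j ∈ Finset.univ, dg 8 x j * bf η (sr j) ≤ θ j * bf η (sr j) := fun j _ => by
        by_cases e : bf ζ (sr j) = 0
        · exact mul_le_mul_of_nonneg_right (h6 j) (h2 j e)
        · rw [a1 j e, t2 j e]
      have h8 := Finset.sum_le_sum h7
      have h9 := h3 θ tr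
      have h10 := Finset.sum_nonneg (h4 _ a0 a1)
      rcases (h3 _ ha).lt_or_eq with h11 | h11
      · have h12 := Int.eq_zero_of_dvd_of_nonneg_of_lt ((hs _).symm ▸ h10) h11 a2
        rw [hs, Finset.sum_eq_zero_iff_of_nonneg (h4 _ a0 a1)] at h12
        exact .inl fun j hj _ => (mul_eq_zero.1 (h12 j (Finset.mem_univ j))).resolve_right hj.ne'
      · rw [← hs, ← hs] at h8
        have h12 := h8.antisymm (h9.trans_eq h11.symm)
        refine .inr ⟨h12.symm.trans h11, fun j hj => mul_right_cancel₀ hj.ne' ?_⟩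
        rw [hs, hs, Finset.sum_eq_sum_iff_of_le h7] at h12
        exact h12 j (Finset.mem_univ j)
    · exact .inl fun j _ hj => (h6 j).resolve_left hj.ne'
  have h6 : ∀ l : V, (∀ a, Rt a → 0 ≤ a → bf a ζ = 0 → (2 : ℤ) ^ e ∣ bf η a → a ⬝ᵥ l = 0) → l i = 0 := fun l hl => by
    obtain ⟨v, hv⟩ := exists_dual l
    have h7 := h v (fun a ha a1 a2 => ?_) (sr i) (rt_sr i) ((bf_comm _ _).trans hi)
    · rwa [hv, sr, single_dotProduct, one_mul] at h7
    rw [hv]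
    rcases ha.sign with e | e
    · exact hl a ha e a1 a2
    · exact neg_eq_zero.1 ((neg_dotProduct _ _).symm.trans (hl _ ha.neg (neg_nonneg.2 e) (by rw [bf_neg_left, a1, neg_zero])
        (by rwa [bf_neg_right, dvd_neg])))
  have h7 : bf η θ = 2 ^ e := by_contra fun h7 => one_ne_zero ((Pi.single_eq_same (M := fun _ => ℤ) i 1).symm.trans
    (h6 (Pi.single i 1) fun a ha a0 a1 a2 => by
      rw [dotProduct_single, mul_one, ((h5 a ha a0 a1 a2).resolve_right fun e => h7 e.1) i hi0 t1]))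
  have h8 : ∀ j, j ≠ i → θ j * bf η (sr j) = 0 := fun j hj => by_contra fun h8 => by
    have h9 := (h4 θ t0 t2 j (Finset.mem_univ j)).lt_of_ne' h8
    have h10 := (t0 j).lt_of_ne' (left_ne_zero_of_mul h8)
    have h11 := (mul_pos_iff_of_pos_left h10).1 h9
    have h12 := h6 (Pi.single i (θ j) - Pi.single j (θ i)) fun a ha a0 a1 a2 => by
      rw [dotProduct_sub, dotProduct_single, dotProduct_single]
      rcases h5 a ha a0 a1 a2 with e | e
      · rw [e i hi0 t1, e j h11 h10, zero_mul, zero_mul, sub_zero]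
      · rw [e.2 i hi0, e.2 j h11, mul_comm, sub_self]
    rw [Pi.sub_apply, Pi.single_eq_same, Pi.single_eq_of_ne hj.symm, sub_zero] at h12
    exact h10.ne' h12
  rw [hs, Finset.sum_eq_single i (fun j _ => h8 j) fun e => absurd (Finset.mem_univ i) e] at h7
  have h9 : θ i = 4 := by
    have h10 : ∀ m : ℤ, Odd m → m ∣ θ i → m ∣ 1 := fun m hm e =>
      (Int.isCoprime_two_right.2 hm).pow_right.dvd_of_dvd_mul_left (by rw [mul_one]; exact e.trans (Dvd.intro _ h7))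
    have h11 : ¬ θ i ∣ 2 := fun e => h0 (h7 ▸ mul_dvd_mul_right e _)
    generalize θ i = m at t1 t3 h10 h11
    have h3 := h10 3 (by decide)
    have h5 := h10 5 (by decide)
    interval_cases m
    exacts [absurd (by decide) h11, absurd (by decide) h11, absurd (h3 (by decide)) (by decide), rfl,
      absurd (h5 (by decide)) (by decide), absurd (h3 (by decide)) (by decide)]
  obtain ⟨t6, t7, t8⟩ := t5 h9
  rw [h9] at h7
  have h10 : ∀ j, j ≠ i → bf ζ (sr j) = 0 → bf η (sr j) = 0 := fun j hj e =>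
    (mul_eq_zero.1 (h8 j hj)).resolve_left (t6 j e).ne'
  by_cases h11 : bf ζ (sr 7) = 0
  · have h12 : ∀ j, bf ζ (sr j) = 0 := fun j => (eq_or_ne j 7).elim (fun e => e ▸ h11) (t7 j)
    refine .inr (.inr ⟨eq_zero_of_sr h12, fun v => ⟨v i, ?_⟩⟩)
    rw [hs, Finset.sum_eq_single i (fun j _ e => by rw [h10 j e (h12 j), mul_zero]) fun e => absurd (Finset.mem_univ i) e, ← h7]
    ring
  · obtain rfl := t8 h11
    have h12 : ∀ v, bf η v = v 3 * bf η (sr 3) + v 7 * bf η (sr 7) := fun v => by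
      rw [hs, Finset.sum_eq_add 3 7 (by decide) (fun j _ e => by rw [h10 j e.1 (t7 j e.2), mul_zero])
        (fun e => absurd (Finset.mem_univ _) e) fun e => absurd (Finset.mem_univ _) e]
    refine .inr (.inl ⟨th, rt_th, fun a ha => ?_, fun v => ⟨v 3 - 3 * v 7, ?_⟩⟩)
    · rw [perp_iff h1 ha, bf_th]
      exact ⟨fun e => e 7 h11, fun e j hj => (by_contra fun h => hj (t7 j h) : j = 7) ▸ e⟩
    · rw [h12 v, h12 th, bf_comm th, bf_th, ← h7, show th 3 = 6 from rfl, show th 7 = 2 from rfl]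
      ring

/-- **isolated `2`-elements** -/
theorem iso8 {ζ η : V} {e : ℕ} (h : Is8 ζ η (2 ^ e)) : Cs8 ζ η (2 ^ e) := by
  obtain ⟨μ, h1⟩ := small η (pow_pos two_pos e)
  obtain ⟨w, h2, h3⟩ := lex ζ (η - (2 : ℤ) ^ e • μ)
  have h4 : ∀ a, bf (ac w (η - (2 : ℤ) ^ e • μ)) (ac w a) = bf η a - 2 ^ e * bf μ a := fun a => by
    rw [bf_ac, bf_sub_left, bf_smul_left]
  have h5 := iso_std (e := e) h2 h3 (fun a ha => (bf_ac' _ _ _).trans_le (h1 _ (ha.ac _))) fun v hv a ha e => by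
    rw [← bf_ac w⁻¹]
    refine h _ (fun b hb b1 b2 => ?_) _ (ha.ac _) (by rw [← bf_ac w, ac_inv', e])
    rw [← bf_ac w, ac_inv']
    exact hv _ (hb.ac w) (by rw [bf_ac, b1]) (by rw [h4]; exact b2.sub (Dvd.intro _ rfl))
  rcases h5 with h5 | ⟨γ, hγ, h5, h6⟩ | ⟨h5, h6⟩
  · refine .inl fun a ha e => ?_
    have h6 := h5 _ (ha.ac w) (by rw [bf_ac, e])
    rwa [h4, mul_sub, dvd_sub_left ((Dvd.intro _ rfl).mul_left _)] at h6
  · obtain ⟨γ, rfl⟩ : ∃ γ', γ = ac w γ' := ⟨_, (ac_inv' w γ).symm⟩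
    refine .inr (.inl ⟨γ, (bf_ac w γ γ).symm.trans hγ, fun a ha => by simpa only [bf_ac] using h5 _ (ha.ac w), fun v => ?_⟩)
    obtain ⟨d, hd⟩ := h6 (ac w v)
    rw [h4, h4, bf_ac] at hd
    exact ⟨d + 4 * bf μ v - 2 * bf μ γ * bf γ v, by linear_combination hd⟩
  · refine .inr (.inr ⟨by rw [← ac_inv w ζ, h5, map_zero], fun v => ?_⟩)
    have h7 := h6 (ac w v)
    rwa [h4, mul_sub, dvd_sub_left ((Dvd.intro _ rfl).mul_left _)] at h7

end Cfsg.Agent.HZ.L.E7
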