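import Cfsg.Agent.HZ.L.E7.Fr

/-!
# HZ/L/E7: quasi-isolated labels, the Levi subsystems of type `E₆` (helper5)

`Fr7.qi`, `Fr7.e6_eq`, `Fr7.e6_fix`, `Fr7.e6_max`.
-/

set_option autoImplicit false
set_option linter.unusedSectionVars false
set_option maxHeartbeats 400000

namespace Cfsg.Agent.HZ.L.E7

open Cfsg Cfsg.Agent.DL Cfsg.Agent.Tits.Roots Matrix

variable {R : Type} [Fintype R] [DecidableEq R] {J : Matrix (Fin 8) R ℤ} {β γ δ : V} {lam : Vec R} {Ψ : RS R}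
  {a : Vec R × Vec R} {A : Mat R} {c c' : Lb R}

theorem exists_log {n : ℕ} (hn : n ≠ 0) (hc : c ^ n = 1) :
    ∃ (x : Vec R) (ω : ℂˣ), IsPrimitiveRoot ω n ∧ ∀ y, chr y c = ω ^ (x ⬝ᵥ y) := by
  have : NeZero n := ⟨hn⟩
  have hω := (Complex.isPrimitiveRoot_exp _ hn).isUnit_unit hn
  choose x _ hx using fun i => hω.eq_pow_of_mem_rootsOfUnity (ξ := c i) (congrFun hc i)
  refine ⟨fun i => x i, _, hω, fun y => ?_⟩
  rw [dotProduct_comm, dotProduct, ← chr_coch]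
  congr 1
  funext i
  rw [coch_apply, zpow_natCast, hx]

theorem eq_one_of (h : ∀ v, chr v c = 1) : c = 1 := funext fun i => (chr_single i c).symm.trans (h _)

/-- the special case `D₆` -/
def Sp6 (J : Matrix (Fin 8) R ℤ) (Ψ : RS R) (c : Lb R) : Prop := ∃ g : Vec R, Rt (J *ᵥ g) ∧ Ψ = pr J (J *ᵥ g) ∧
  ∀ v, chr v c ^ 4 = chr g c ^ (2 * bf (J *ᵥ g) (J *ᵥ v))

namespace Fr7

variable (h : Fr7 J β)
include h

theorem exists_eta (x : Vec R) (n : ℤ) :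
    ∃ η : V, ∀ y u, J *ᵥ u = (2 : ℤ) • y - bf β y • β → bf η y = 2 * (x ⬝ᵥ u) + n * bf β y := by
  choose u hu using fun i => h.exists_pi (sr i)
  obtain ⟨η, hη⟩ := exists_dual fun i => 2 * (x ⬝ᵥ u i) + n * bf β (sr i)
  refine ⟨η, fun y v hv => ?_⟩
  have h1 : v = ∑ i, y i • u i := h.ext (by
    simp only [hv, mulVec_sum, mulVec_smul, hu, smul_sub, Finset.sum_sub_distrib, smul_smul, ← Finset.sum_smul]
    rw [← bf_sum, bf_comm y, show ∑ i, (y i * 2) • sr i = (2 : ℤ) • y from funext fun j => by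
      simp [sr, Pi.single_apply, mul_comm]])
  rw [bf_comm, hη, h1, bf_comm β, bf_sum]
  simp only [dotProduct_sum, dotProduct_smul, smul_eq_mul, Finset.mul_sum, ← Finset.sum_add_distrib]
  exact Finset.sum_congr rfl fun i _ => by ring

/-- quasi-isolated `2`-labels -/
theorem qi2 {e : ℕ} (hc : c ^ 2 ^ e = 1) (hq : QI (lev (top J) lam) c) :
    (∀ a ∈ lev (top J) lam, chr a.2 c ^ 2 = 1) ∨ lam = 0 ∧ c ^ 4 = 1 ∨ Sp6 J (lev (top J) lam) c := by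
  obtain ⟨x, ω, hω, hx⟩ := exists_log (pow_ne_zero e two_ne_zero) hc
  obtain ⟨η, hη⟩ := h.exists_eta x (2 ^ e)
  have h1 : ∀ v, bf η (J *ᵥ v) = 4 * (x ⬝ᵥ v) := fun v => by
    rw [hη _ ((2 : ℤ) • v) (by rw [h.bJ, zero_smul, sub_zero, mulVec_smul]), h.bJ, dotProduct_smul, smul_eq_mul]
    ring
  have h2 : bf η β = 2 * 2 ^ e := by
    rw [hη β 0 (by rw [h.rt, sub_self, mulVec_zero]), h.rt, dotProduct_zero]
    ring
  have h3 : ∀ m : ℤ, ω ^ m = 1 ↔ (2 : ℤ) ^ (e + 2) ∣ 4 * m := fun m => by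
    rw [hω.zpow_eq_one_iff_dvd, pow_add, mul_comm, show (2 : ℤ) ^ 2 = 4 from rfl, mul_dvd_mul_iff_left four_ne_zero]
    norm_cast
  have h4 : ∀ (v) (m : ℕ), chr v c ^ m = 1 ↔ (2 : ℤ) ^ (e + 2) ∣ m * bf η (J *ᵥ v) := fun v m => by
    rw [hx, ← zpow_natCast, ← _root_.zpow_mul, h3, h1, mul_comm (m : ℤ), mul_assoc]
  -- the lifts of the stabiliser
  have h5 : ∀ A ∈ WW (lev (top J) lam), Tl A c c → ∃ g : W8, (∀ v, J *ᵥ (A *ᵥ v) = ac g (J *ᵥ v)) ∧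
      (ac g β = β ∨ ac g β = -β) ∧ ∀ y, (2 : ℤ) ^ (e + 2) ∣ bf η (ac g y) - bf η y := fun A hA ht => by
    obtain ⟨g, g1, g2⟩ := h.lift (WW_mono (lev_sub _ _) hA)
    obtain ⟨y₁, hy⟩ := exists_one h.rt
    have g3 : ∀ v, (2 : ℤ) ^ (e + 2) ∣ bf η (ac g (J *ᵥ v)) - bf η (J *ᵥ v) := fun v => by
      rw [← g1, h1, h1, ← mul_sub, ← h3, _root_.zpow_sub, ← hx, ← hx, ht, mul_inv_cancel]
    have g4 : ∀ g' : W8, (∀ v, ac g' (J *ᵥ v) = ac g (J *ᵥ v)) → (2 : ℤ) ^ (e + 2) ∣ bf η (ac g' y₁) - bf η y₁ →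
        ∀ y, (2 : ℤ) ^ (e + 2) ∣ bf η (ac g' y) - bf η y := fun g' e1 e2 y => by
      obtain ⟨v, hv⟩ := (h.img (y - bf β y • y₁)).2 (by rw [bf_sub_right, bf_smul_right, hy, mul_one, sub_self])
      rw [← eq_sub_iff_add_eq.1 hv, map_add, map_smul, e1, bf_add_right, bf_add_right, bf_smul_right, bf_smul_right,
        add_sub_add_comm, ← mul_sub]
      exact (g3 v).add (e2.mul_left _)
    obtain ⟨u, hu⟩ := h.exists_pi y₁
    obtain ⟨d, hd⟩ := g3 u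
    rw [hu, map_sub, map_smul, map_smul, g2, bf_sub_right, bf_sub_right, bf_smul_right, bf_smul_right, bf_smul_right,
      pow_add] at hd
    rcases Int.even_or_odd' d with ⟨d, rfl | rfl⟩
    · exact ⟨g, g1, .inl g2, g4 g (fun _ => rfl) ⟨d, by rw [pow_add]; linarith⟩⟩
    · obtain ⟨s, hs⟩ := exists_rf h.rt
      have g5 : ∀ v, ac (g * s) (J *ᵥ v) = ac g (J *ᵥ v) := fun v => by rw [ac_mul, hs, h.bJ, zero_smul, sub_zero]
      refine ⟨g * s, fun v => (g1 v).trans (g5 v).symm, .inr ?_, g4 _ g5 ⟨d, ?_⟩⟩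
      · rw [ac_mul, hs, h.rt, map_sub, map_smul, g2, two_smul, sub_add_cancel_left]
      · rw [ac_mul, hs, hy, one_smul, map_sub, g2, bf_sub_right, h2, pow_add]
        linarith
  have h6 : (∀ v, (2 : ℤ) ^ (e + 2) ∣ 4 * bf η (J *ᵥ v)) → c ^ 4 = 1 := fun e =>
    eq_one_of fun v => (map_pow _ _ _).trans ((h4 v 4).2 (e v))
  have hp : (0 : ℤ) < 2 ^ (e + 2) := pow_pos two_pos _
  by_cases h7 : ∀ A ∈ WW (lev (top J) lam), Tl A c c → ∃ g : W8, (∀ v, J *ᵥ (A *ᵥ v) = ac g (J *ᵥ v)) ∧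
      ac g β = β ∧ ∀ y, (2 : ℤ) ^ (e + 2) ∣ bf η (ac g y) - bf η y
  · refine (h.cs_one (η := η) (e := e + 2) fun u hu => hq u fun A hA ht => ?_).imp (fun e a ha => (h4 _ 2).2 (e a ha))
      fun e => .inl ⟨e.1, h6 fun v => by simpa only [h.bJ, mul_zero, sub_zero] using e.2 (J *ᵥ v)⟩
    obtain ⟨g, g1, g2, g3⟩ := h7 A hA ht
    obtain ⟨N, -, h8⟩ := exists_zeta β (J *ᵥ lam)
    refine h.ext ((g1 u).trans (stein' (ζ := N • β + J *ᵥ lam) hp g3 ?_ fun m hm e1 e2 => ?_))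
    · rw [map_add, map_smul, g2, ← g1, Perp.fix (fun _ e => e.2) hA]
    · obtain ⟨a, ha, rfl⟩ := h.exists_top hm ((h8 m hm).1 e1).1
      exact (ha.2 u).symm.trans (hu a (mem_lev.2 ⟨ha, ((h8 _ hm).1 e1).2⟩) e2)
  push Not at h7
  obtain ⟨A₀, hA₀, ht₀, h7⟩ := h7
  obtain ⟨g₀, f1, f2, f3⟩ := h5 A₀ hA₀ ht₀
  replace f2 := f2.resolve_left fun e => (h7 g₀ f1 e).elim fun y hy => hy (f3 y)
  let P : Submodule ℤ (Vec R) :=
    { carrier := {v | Perp (lev (top J) lam) v}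
      zero_mem' := fun _ _ => dotProduct_zero _
      add_mem' := fun {u v} hu hv a ha => by rw [dotProduct_add, hu a ha, hv a ha, add_zero]
      smul_mem' := fun m v hv a ha => by rw [dotProduct_smul, hv a ha, smul_zero] }
  obtain ⟨z, hz, h8⟩ := exists_generic P (finite_rt.image fun m => m ᵥ* C8 ᵥ* J)
  have h9 : ∀ m, Rt m → bf m (J *ᵥ z) = 0 → ∀ u, Perp (lev (top J) lam) u → bf m (J *ᵥ u) = 0 := fun m hm e u hu => by
    have := h8 _ ⟨m, hm, rfl⟩ (by rwa [← dotProduct_mulVec, ← dotProduct_mulVec]) u hu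
    rwa [← dotProduct_mulVec, ← dotProduct_mulVec] at this
  have h10 : ∀ a ∈ lev (top J) lam, bf (J *ᵥ a.2) (J *ᵥ z) = 0 := fun a ha => (ha.1.2 z).symm.trans (hz a ha)
  rcases iso8 (ζ := J *ᵥ z) (η := η) (e := e + 2) fun v hv m hm e => by
    have h11 : bf β v = 0 := by
      have h12 := bf_ac g₀ β v
      rw [stein' hp f3 (by rw [← f1, Perp.fix hz hA₀]) hv, f2, bf_neg_left] at h12
      omega
    obtain ⟨u, rfl⟩ := (h.img v).2 h11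
    refine h9 m hm e u (hq u fun A hA ht => ?_)
    obtain ⟨g, g1, -, g3⟩ := h5 A hA ht
    exact h.ext ((g1 u).trans (stein' hp g3 (by rw [← g1, Perp.fix hz hA]) hv)) with h11 | ⟨γ, hγ, h11, h12⟩ | ⟨h11, h12⟩
  · exact .inl fun a ha => (h4 _ 2).2 (h11 _ ha.1.1 (h10 a ha))
  · obtain ⟨g, rfl⟩ := (h.img γ).2 ((h11 β h.rt).1 (h.bJ z))
    refine .inr (.inr ⟨g, hγ, Set.ext fun a => ⟨fun ha => ⟨ha.1, (bf_comm _ _).trans ((h11 _ ha.1.1).1 (h10 a ha))⟩,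
      fun ha => mem_lev.2 ⟨ha.1, h9 _ ha.1.1 ((h11 _ ha.1.1).2 ((bf_comm _ _).trans ha.2)) lam fun _ e => e.2⟩⟩, fun v => ?_⟩)
    rw [hx, hx, ← zpow_natCast, ← _root_.zpow_mul, ← _root_.zpow_mul, ← mul_inv_eq_one, ← _root_.zpow_sub, h3]
    convert h12 (J *ᵥ v) using 1
    rw [h1, h1]
    push_cast
    ring
  · exact .inr (.inl ⟨h.inj lam (eq_zero_of_sr fun i => (bf_comm _ _).trans
      (h9 _ (rt_sr i) (by rw [h11, bf_zero_right]) lam fun _ e => e.2)), h6 fun v => h12 _⟩)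

/-- **quasi-isolated labels** -/
theorem qi {p : ℕ} (hc : Fo p c) (hq : QI (lev (top J) lam) c) :
    Sq (lev (top J) lam) c ∨ lam = 0 ∧ Gd c ∨ ∃ m, Odd m ∧ Sp6 J (lev (top J) lam) (c ^ m) := by
  obtain ⟨n, hn, h1⟩ := hc
  obtain ⟨e, m, hm, rfl⟩ := Nat.exists_eq_two_pow_mul_odd (n := n) fun e => hn (e ▸ dvd_zero p)
  rcases h.qi2 (c := c ^ m) (e := e) (by rw [← pow_mul, mul_comm, h1])
    (fun u hu => hq u fun A hA ht => hu A hA (ht.pow m)) with h2 | h2 | h2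
  · exact .inl ⟨m, hm, fun a ha => by rw [mul_comm, pow_mul, ← map_pow, h2 a ha]⟩
  · exact .inr (.inl ⟨h2.1, m, hm, by rw [mul_comm, pow_mul, h2.2]⟩)
  · exact .inr (.inr ⟨m, hm, h2⟩)

theorem gd_of_sq (hc : Sq (top J) c) : Gd c := hc.imp fun n hn => ⟨hn.1, by
  rw [show 4 * n = 2 * n * 2 by ring, pow_mul, eq_one_of (c := c ^ (2 * n)) fun v =>
    chr_Qv (fun a ha => (map_pow _ _ _).trans (hn.2 a ha)) (h.Qv_top v), one_pow]⟩

variable (hδ : Rt δ) (e1 : bf β δ = 1)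
include hδ e1

theorem exists_v0 : ∃ v₀, J *ᵥ v₀ = (2 : ℤ) • δ - β := by simpa only [e1, one_smul] using h.exists_pi δ

variable {v₀ : Vec R} (h0 : J *ᵥ v₀ = (2 : ℤ) • δ - β)
include h0

theorem dot_v0 (v : Vec R) : bf (J *ᵥ v) (J *ᵥ v₀) = 2 * bf δ (J *ᵥ v) := by
  rw [h0, bf_sub_right, bf_smul_right, bf_comm _ β, h.bJ, sub_zero, bf_comm]

theorem pr_eq : pr J δ = lev (top J) v₀ := Set.ext fun a => by
  rw [mem_lev, h.dot_v0 hδ e1 h0, mul_eq_zero_iff_left two_ne_zero]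
  rfl

theorem three (v : Vec R) : bf δ (J *ᵥ ((3 : ℤ) • v - bf δ (J *ᵥ v) • v₀)) = 0 := by
  rw [mulVec_sub, mulVec_smul, mulVec_smul, h0, bf_sub_right, bf_smul_right, bf_smul_right, bf_sub_right, bf_smul_right, hδ,
    bf_comm δ β, e1]
  ring

omit h0 in
theorem e6_max (hl : pr J δ ⊆ lev (top J) lam) : lam = 0 ∨ lev (top J) lam = pr J δ := by
  obtain ⟨v₀, h0⟩ := h.exists_v0 hδ e1
  have h1 := sub_eq_zero.1 (h.perp_pr hδ (.inr e1) (fun a ha => by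
    rw [dotProduct_sub, dotProduct_smul, dotProduct_smul, (hl ha).2, ((h.pr_eq hδ e1 h0).le ha).2]
    simp) (h.three hδ e1 h0 lam))
  refine (eq_or_ne (bf δ (J *ᵥ lam)) 0).imp (fun e => ?_) fun e => hl.antisymm' fun a ha => (h.pr_eq hδ e1 h0).ge ⟨ha.1, ?_⟩
  · rw [e, zero_smul] at h1
    exact (smul_eq_zero.1 h1).resolve_left three_ne_zero
  · have h2 := congrArg (a.1 ⬝ᵥ ·) h1
    simp only [dotProduct_smul, ha.2, smul_zero] at h2
    exact (mul_eq_zero.1 h2.symm).resolve_left e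

omit h0 in
theorem e6_eq (h1 : Sq (pr J δ) c) (h2 : Sq (pr J δ) c') (h3 : EqP (pr J δ) c c') :
    ∃ n, Odd n ∧ c ^ (2 * n) = c' ^ (2 * n) ∧ ∀ a ∈ pr J δ, chr a.2 (c ^ (2 * n)) = 1 := by
  obtain ⟨v₀, h0⟩ := h.exists_v0 hδ e1
  obtain ⟨n, hn, h1⟩ := h1
  obtain ⟨m, hm, h2⟩ := h2
  have h4 : ∀ a ∈ pr J δ, chr a.2 (c ^ (2 * (n * m))) = 1 := fun a ha => by
    rw [map_pow, ← mul_assoc, pow_mul, h1 a ha, one_pow]
  have h5 : ∀ a ∈ pr J δ, chr a.2 (c' ^ (2 * (n * m))) = 1 := fun a ha => by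
    rw [map_pow, mul_comm n, ← mul_assoc, pow_mul, h2 a ha, one_pow]
  have h6 : ∀ d : Lb R, (∀ a ∈ pr J δ, chr a.2 d = 1) → ∀ v, chr v (d ^ 3) = chr v₀ d ^ bf δ (J *ᵥ v) := fun d hd v => by
    have h7 := chr_Qv hd (h.Qv_pr hδ (.inr e1) (h.three hδ e1 h0 v))
    rw [chr_sub, chr_zsmul, chr_zsmul, mul_inv_eq_one] at h7
    rw [map_pow, ← h7]
    rfl
  refine ⟨n * m * 3, (hn.mul hm).mul (by decide), funext fun i => ?_, fun a ha => by
    rw [← mul_assoc, pow_mul, map_pow, h4 a ha, one_pow]⟩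
  rw [← chr_single i (c ^ _), ← chr_single i (c' ^ _), ← mul_assoc, pow_mul, pow_mul c', h6 _ h4, h6 _ h5, map_pow, map_pow,
    h3 v₀ fun a ha => ((h.pr_eq hδ e1 h0).le ha).2]

theorem e6_fix (hc : ∀ a ∈ pr J δ, chr a.2 c = 1) (h2 : c ^ 2 ≠ 1) (hA : A ∈ WW (top J)) (ht : Tl A c c) : A *ᵥ v₀ = v₀ := by
  obtain ⟨x, x1, x2⟩ := exists_two h.rt hδ (.inr e1)
  obtain ⟨u, rfl⟩ := (h.img x).2 x1
  have h3 : ∀ v, chr v c = chr u c ^ bf δ (J *ᵥ v) := fun v => by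
    have h4 := chr_Qv hc (h.Qv_pr hδ (.inr e1) (v := v - bf δ (J *ᵥ v) • u) (by
      rw [mulVec_sub, mulVec_smul, bf_sub_right, bf_smul_right, x2, mul_one, sub_self]))
    rwa [chr_sub, chr_zsmul, mul_inv_eq_one] at h4
  have h4 : chr u c ^ (2 : ℤ) ≠ 1 := fun e => h2 (eq_one_of fun v => by
    rw [map_pow, h3, ← zpow_natCast, ← _root_.zpow_mul, mul_comm, _root_.zpow_mul, Nat.cast_ofNat, e, _root_.one_zpow])
  obtain ⟨g, g1, g2⟩ := h.lift hA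
  have h5 : ∀ m, Rt m → bf β m = 0 → -1 ≤ bf δ m ∧ bf δ m ≤ 1 := fun m hm e => by
    have h6 := hδ.le_one hm.neg fun e' => by simp [e', bf_neg_right, e] at e1
    rw [bf_neg_right] at h6
    exact ⟨by omega, hδ.le_one hm fun e' => by simp [e', e] at e1⟩
  have h6 := perp_one (x := ac g⁻¹ δ - δ) h.rt (by rw [bf_sub_right, ← bf_ac', g2, sub_self]) fun m hm e => by
    obtain ⟨v, rfl⟩ := (h.img m).2 e
    have h7 := ht v
    rw [h3, h3 v, g1, ← mul_inv_eq_one, ← _root_.zpow_sub] at h7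
    have h8 := h5 _ hm e
    have h9 := h5 _ (hm.ac g) (g1 v ▸ h.bJ _)
    rw [bf_sub_left, bf_ac', inv_inv]
    by_contra h10
    refine h4 ?_
    obtain ⟨k, hk⟩ : bf δ (ac g (J *ᵥ v)) - bf δ (J *ᵥ v) ∣ 2 := by
      generalize bf δ (ac g (J *ᵥ v)) = s, bf δ (J *ᵥ v) = t at h8 h9 h10
      obtain ⟨h8, h8'⟩ := h8
      obtain ⟨h9, h9'⟩ := h9
      interval_cases s <;> interval_cases t <;> first | decide | exact absurd rfl h10
    rw [hk, _root_.zpow_mul, h7, _root_.one_zpow]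
  refine h.ext ?_
  rw [g1, h0, map_sub, map_smul, g2, ← congrArg (ac g) (sub_eq_zero.1 h6), ac_inv']

end Fr7

end Cfsg.Agent.HZ.L.E7
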