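import Cfsg.Agent.HZ.L.E7.Defs
import Cfsg.Agent.HZ.L.CL.Sp
import Cfsg.Agent.KM.Sc.E3
import Cfsg.Agent.KM.E2.L7

/-!
# HZ/L/E7: the row of the groups `E₇(q)` from the result for the label system (helper22)

* `hh_of_sc` : `HH` for all covers from `HH` for the simply connected group (all types);
* `st_of` : a quasi-split datum with scalar `Mx`;
* `R_of` : the vectors of norm two of the lattice `E₇` are roots; `exists_co`, `adm_of`; **`boxRow`**.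
-/

set_option autoImplicit false
set_option linter.unusedSectionVars false

namespace Cfsg.Agent.HZ.L.E7.Row

open Cfsg Cfsg.Lie Cfsg.Agent.DL Matrix Cfsg.Agent.KM.E2 Cfsg.Agent.KM.Tor Cfsg.Agent.Tits.Roots Cfsg.Agent.KZ.DatX
open Cfsg.Agent.KM.E2.L7c (B E R cc dd Co)
open Cfsg.Agent.TO.X.Cn (Pi1 cl)

/-! ### the lattice -/

theorem B_self (y : L7c.V) : B y y = y 0 * (2 * y 0 - y 2) + y 1 * (2 * y 1 - y 3) + y 2 * (2 * y 2 - y 0 - y 3) +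
    y 3 * (2 * y 3 - y 1 - y 2 - y 4) + y 4 * (2 * y 4 - y 3 - y 5) + y 5 * (2 * y 5 - y 4 - y 6) +
    y 6 * (2 * y 6 - y 5) := rfl

theorem sos (y : L7c.V) : 4 * B y y = (y 0 + 2 * y 1 - 2 * y 2) ^ 2 + (-y 0 + 2 * y 1 + 2 * y 2 - 2 * y 3) ^ 2 +
    (-y 0 + 2 * y 3 - 2 * y 4) ^ 2 + (-y 0 + 2 * y 4 - 2 * y 5) ^ 2 + (-y 0 + 2 * y 5 - 2 * y 6) ^ 2 +
    (-y 0 + 2 * y 6) ^ 2 + 2 * y 0 ^ 2 := by
  rw [B_self]
  ring

theorem B_nonneg (y : L7c.V) : 0 ≤ B y y := by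
  have : 0 ≤ 4 * B y y := by rw [sos]; positivity
  omega

theorem eq_zero {y : L7c.V} (h : B y y = 0) : y = 0 := by
  have h1 := sos y
  rw [h] at h1
  have k : ∀ a : ℤ, a ^ 2 ≤ 0 → a = 0 := fun a ha => (pow_eq_zero_iff two_ne_zero).1 (le_antisymm ha (sq_nonneg a))
  have s0 := sq_nonneg (y 0 + 2 * y 1 - 2 * y 2)
  have s1 := sq_nonneg (-y 0 + 2 * y 1 + 2 * y 2 - 2 * y 3)
  have s2 := sq_nonneg (-y 0 + 2 * y 3 - 2 * y 4)
  have s3 := sq_nonneg (-y 0 + 2 * y 4 - 2 * y 5)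
  have s4 := sq_nonneg (-y 0 + 2 * y 5 - 2 * y 6)
  have s5 := sq_nonneg (-y 0 + 2 * y 6)
  have s6 := sq_nonneg (y 0)
  have e0 := k (y 0 + 2 * y 1 - 2 * y 2) (by omega)
  have e1 := k (-y 0 + 2 * y 1 + 2 * y 2 - 2 * y 3) (by omega)
  have e2 := k (-y 0 + 2 * y 3 - 2 * y 4) (by omega)
  have e3 := k (-y 0 + 2 * y 4 - 2 * y 5) (by omega)
  have e4 := k (-y 0 + 2 * y 5 - 2 * y 6) (by omega)
  have e5 := k (-y 0 + 2 * y 6) (by omega)
  have e6 := k (y 0) (by omega)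
  apply L7c.ext7 <;> rw [Pi.zero_apply] <;> omega

/-- the norms of the vectors `E` are `0` or `6` modulo `8` -/
theorem E_norm {y : L7c.V} (h : E y) : ∃ m : ℤ, B y y = 8 * m ∨ B y y = 8 * m + 6 := by
  obtain ⟨⟨a, ha⟩, ⟨c, hc⟩, ⟨d, hd⟩, ⟨f, hf⟩, ⟨u, hu⟩, v, hv⟩ := h
  have h1 : y 1 = y 6 + 2 * v + 2 * u := by omega
  have h4 : y 4 = y 6 + 2 * v := by omega
  have h5 : B y y = 8 * (a ^ 2 + c ^ 2 + d ^ 2 + f ^ 2 + y 6 * (v + u) + (v + u) ^ 2 + y 6 * v + v ^ 2 - a * c - c * d -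
      d * (y 6 + 2 * v + u) - f * (y 6 + v)) + 6 * y 6 ^ 2 := by
    rw [B_self, ha, hc, hd, hf, h1, h4]
    ring
  rw [h5]
  generalize a ^ 2 + c ^ 2 + d ^ 2 + f ^ 2 + y 6 * (v + u) + (v + u) ^ 2 + y 6 * v + v ^ 2 - a * c - c * d -
      d * (y 6 + 2 * v + u) - f * (y 6 + v) = m
  obtain ⟨t, ht | ht⟩ := Int.even_or_odd' (y 6)
  · exact ⟨m + 3 * t ^ 2, .inl (by rw [ht]; ring)⟩
  · exact ⟨m + 3 * (t ^ 2 + t), .inr (by rw [ht]; ring)⟩

theorem R_norm0 : ∀ t ∈ K7.L7, B (L7c.mk t) (L7c.mk t) = 2 ∧ ((-L7c.mk t) 0, (-L7c.mk t) 1, (-L7c.mk t) 2, (-L7c.mk t) 3,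
    (-L7c.mk t) 4, (-L7c.mk t) 5, (-L7c.mk t) 6) ∈ K7.L7 := by decide +kernel

theorem R_norm {a : L7c.V} (h : R a) : B a a = 2 ∧ R (-a) := h.all (P := fun a => B a a = 2 ∧ R (-a)) R_norm0

/-- **the vectors of norm two are roots** -/
theorem R_of {x : L7c.V} (h : B x x = 2) : R x := by
  rcases L7c.inv1 x with e | ⟨a, ha, e⟩
  · obtain ⟨m, h1⟩ := E_norm e
    omega
  obtain ⟨h1, h2⟩ := R_norm ha
  have k1 : B (x - a) (x - a) = 4 - 2 * B x a := by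
    rw [L7c.B_sub, L7c.B_comm x, L7c.B_comm a, L7c.B_sub, L7c.B_sub, h, h1, L7c.B_comm a]
    ring
  have k2 : B (x + a) (x + a) = 4 + 2 * B x a := by
    rw [L7c.B_add, L7c.B_comm x, L7c.B_comm a, L7c.B_add, L7c.B_add, h, h1, L7c.B_comm a]
    ring
  have k3 := e.dvd a
  rw [L7c.B_comm, L7c.B_sub, h1] at k3
  have k4 := B_nonneg (x - a)
  have k5 := B_nonneg (x + a)
  obtain ⟨m, k6⟩ := E_norm e
  rcases (by omega : B (x - a) (x - a) = 0 ∨ B (x + a) (x + a) = 0) with k | k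
  · exact sub_eq_zero.1 (eq_zero k) ▸ ha
  · exact eq_neg_of_add_eq_zero_left (eq_zero k) ▸ h2

/-- the embedding into `E₈` -/
def pad (x : L7c.V) : V := ![x 0, x 1, x 2, x 3, x 4, x 5, x 6, 0]

/-- the highest root of `E₈` -/
def th8 : V := ![2, 3, 4, 6, 5, 4, 3, 2]

theorem bf_eq (x y : V) : bf x y = x 0 * (2 * y 0 - y 2) + x 1 * (2 * y 1 - y 3) + x 2 * (2 * y 2 - y 0 - y 3) +
    x 3 * (2 * y 3 - y 1 - y 2 - y 4) + x 4 * (2 * y 4 - y 3 - y 5) + x 5 * (2 * y 5 - y 4 - y 6) +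
    x 6 * (2 * y 6 - y 5 - y 7) + x 7 * (2 * y 7 - y 6) := by
  show x ⬝ᵥ C8 *ᵥ y = _
  simp [C8, dotProduct, mulVec, Fin.sum_univ_eight]
  ring

theorem bf_pad (x y : L7c.V) : bf (pad x) (pad y) = B x y := by
  rw [bf_eq]
  show x 0 * (2 * y 0 - y 2) + x 1 * (2 * y 1 - y 3) + x 2 * (2 * y 2 - y 0 - y 3) +
    x 3 * (2 * y 3 - y 1 - y 2 - y 4) + x 4 * (2 * y 4 - y 3 - y 5) + x 5 * (2 * y 5 - y 4 - y 6) +
    x 6 * (2 * y 6 - y 5 - 0) + 0 * (2 * 0 - y 6) = x 0 * (2 * y 0 - y 2) + x 1 * (2 * y 1 - y 3) + x 2 * (2 * y 2 - y 0 - y 3) +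
    x 3 * (2 * y 3 - y 1 - y 2 - y 4) + x 4 * (2 * y 4 - y 3 - y 5) + x 5 * (2 * y 5 - y 4 - y 6) + x 6 * (2 * y 6 - y 5)
  ring

theorem bf_th (y : V) : bf th8 y = y 7 := by
  rw [bf_eq]
  show 2 * (2 * y 0 - y 2) + 3 * (2 * y 1 - y 3) + 4 * (2 * y 2 - y 0 - y 3) +
    6 * (2 * y 3 - y 1 - y 2 - y 4) + 5 * (2 * y 4 - y 3 - y 5) + 4 * (2 * y 5 - y 4 - y 6) +
    3 * (2 * y 6 - y 5 - y 7) + 2 * (2 * y 7 - y 6) = y 7
  ring

theorem pad_add (x y : L7c.V) : pad (x + y) = pad x + pad y := by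
  funext i
  fin_cases i <;> rfl

theorem pad_inj {x y : L7c.V} (h : pad x = pad y) : x = y :=
  L7c.ext7 (congrFun h 0) (congrFun h 1) (congrFun h 2) (congrFun h 3) (congrFun h 4) (congrFun h 5) (congrFun h 6)

theorem pad_img {y : V} (h : y 7 = 0) : ∃ x, pad x = y := ⟨![y 0, y 1, y 2, y 3, y 4, y 5, y 6], funext fun i => by
  fin_cases i
  exacts [rfl, rfl, rfl, rfl, rfl, rfl, rfl, h.symm]⟩

/-! ### data -/

variable {p : ℕ} [Fact p.Prime] {k : Type} [Field k] [CharP k p] [IsAlgClosed k] {Y : Type} [Group Y] {N : Type}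
  [Fintype N] [DecidableEq N] {ρ : Y →* GL N k} {F : MulAut Y} {G : Subgroup Y} {X : Datum p ρ F G}

/-- **all covers from the simply connected group** -/
theorem hh_of_sc {S : Type} [Group S] (s : KM.Sc X S) {A : Type} [CommGroup A] (hA : HasSchurMultiplier S A)
    (hp : ¬ p ∣ Nat.card A) {M : Ideal AlgInt} (hM : IsPModular 2 M) (h : HH M ↥(GF F G)) (K : Type) [Group K] [Finite K]
    (hK : IsQuasisimple K) (e : (K ⧸ Subgroup.center K) ≃* S) : HH M K := by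
  have := X.amb.finite_GF G
  have h0 : (e.toMonoidHom.comp (QuotientGroup.mk' (Subgroup.center K))).ker = Subgroup.center K := by
    rw [← MonoidHom.comap_ker, (MonoidHom.ker_eq_bot_iff _).2 e.injective, MonoidHom.comap_bot, QuotientGroup.ker_mk']
  have h1 := H95.StemCover.card_ker_dvd hA hK.1.commutator_eq_top _
    (e.surjective.comp (QuotientGroup.mk'_surjective _)) h0.le
  obtain ⟨ψ, hψ, h2⟩ := s.cov K hK (fun h2 => hp (h2.trans (h0 ▸ h1))) e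
  refine CL.SpR.hh_quot hM hψ (fun x hx => s.ker.le ?_) h
  rw [MonoidHom.mem_ker, ← h2, MonoidHom.mem_ker.1 hx, QuotientGroup.mk_one, map_one]

/-- **a split datum** -/
theorem st_of {e : ℕ} (he : 0 < e) (hq : X.QS) (h : X.Mx = (p : ℤ) ^ e • 1) : St X e 1 := by
  refine ⟨he, h, hq, ⟨1, one_pos, one_pow 1⟩, fun a ha => ?_⟩
  have hp : (p : ℤ) ≠ 0 := Int.natCast_ne_zero.2 (Fact.out : p.Prime).ne_zero
  have h1 := X.wt_g ha
  rw [h, vecMul_smul, vecMul_one, ← map_zsmul, ← map_zsmul] at h1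
  have h2 := X.wt_injective h1
  have k : ∀ {a b : X.I → ℤ} {m n : ℕ}, X.Rt a → (p : ℤ) ^ m • a = (p : ℤ) ^ n • b → n ≤ m := fun {a b m n} ha e => by
    by_contra hlt
    obtain ⟨d, rfl⟩ := Nat.exists_eq_add_of_lt (not_le.1 hlt)
    rw [add_assoc, pow_add, mul_smul] at e
    have h3 := isUnit_of_smul _ _ ha _ (smul_right_injective _ (pow_ne_zero m hp) e)
    rw [isUnit_pow_iff (Nat.succ_ne_zero d), Int.isUnit_iff_natAbs_eq, Int.natAbs_natCast] at h3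
    exact (Fact.out : p.Prime).ne_one h3
  exact le_antisymm (k (X.g_root a ha) h2) (k ha h2.symm)

/-- the label system admits the data with coordinates -/
theorem adm_of (C : Co X) (A : Mat X.R) : L.adm (rts X) A := by
  let l : (X.R → ℤ) →ₗ[ℤ] V := ((AddMonoidHom.mk' pad pad_add).comp C.ψ.toAddMonoidHom).toIntLinearMap
  have hJ : ∀ v, LinearMap.toMatrix' l *ᵥ v = pad (C.ψ v) := fun v => LinearMap.toMatrix'_mulVec l v
  refine ⟨LinearMap.toMatrix' l, th8, 0, ⟨bf_th _, fun v h => ?_, fun x => ?_⟩, ?_⟩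
  · exact C.ψ.injective (pad_inj (((hJ v).symm.trans h).trans ((hJ 0).symm.trans (mulVec_zero _)).symm))
  · rw [bf_th]
    refine ⟨fun ⟨v, h⟩ => by rw [← h, hJ]; rfl, fun h => ?_⟩
    obtain ⟨y, rfl⟩ := pad_img h
    exact ⟨C.ψ.symm y, by rw [hJ, C.ψ.apply_symm_apply]⟩
  rw [lev_zero]
  refine Set.ext fun a => ⟨?_, fun ⟨h1, h2⟩ => ?_⟩
  · rintro ⟨b, hb, rfl⟩
    refine ⟨?_, fun v => ?_⟩
    · show bf _ _ = 2
      rw [hJ, bf_pad, C.cor b hb]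
      exact (R_norm (C.rt b hb)).1
    · rw [hJ, hJ, bf_pad, C.cor b hb]
      exact C.wt b v
  · obtain ⟨b, hb, e⟩ := C.sj _ (R_of (x := C.ψ a.2) (by rw [← bf_pad, ← hJ]; exact h1))
    refine ⟨b, hb, Prod.ext (dotProduct_eq _ _ fun v => ?_) (C.ψ.injective ((C.cor b hb).trans e).symm)⟩
    rw [h2, hJ, hJ, bf_pad, ← e]
    exact (C.wt b v).symm

open L7c in
/-- coordinates for the simply connected datum (the construction inside `KM.E2.boxL7`) -/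
theorem exists_co {Mx : Matrix (Fin 7) (Fin 7) ℤ} (X : XF hpE7 p k Mx) (X' : Datum p ρ F G) {θ : Y →* ↥(chevE7.group k)}
    (I : KM.Sc.Isog X' X.D θ 2) (h1 : Pi1 X' 1) : Nonempty (Co X') := by
  have cl7 : ∀ β : L7c.V, cl X.D β = cc β := fun β => (K6.cl_co X β).trans (co_eq β)
  have hR : I.Rg := I.rg h1 two_ne_zero fun (v : L7c.V) => ⟨dd v, ((cl7 _).trans (cc_dd v)).symm⟩
  have b0 : ∀ u, ∃ β : L7c.V, I.P *ᵥ u = cc β := fun u => ((hR _).2 ⟨u, rfl⟩).imp fun _ e => e.trans (cl7 _)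
  choose ψ hψ using b0
  have b1 : Function.Bijective (AddMonoidHom.mk' (M := X'.R → ℤ) (G := L7c.V) ψ fun u v =>
      cc_inj (by rw [cc_add, ← hψ, ← hψ, ← hψ, mulVec_add]; rfl)) :=
    ⟨fun u v h => I.P_inj ((hψ u).trans ((congrArg cc h).trans (hψ v).symm)), fun β =>
      let ⟨u, hu⟩ := (hR _).1 ⟨β, rfl⟩
      ⟨u, cc_inj ((hψ u).symm.trans (hu.trans (cl7 β)))⟩⟩
  have w1 : ∀ a' (a : L7c.V), X'.wt a' = X.D.wt a ᵥ* I.P → ∀ u, X'.wt a' ⬝ᵥ u = B a (ψ u) := fun a' a h u => by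
    rw [h, ← dotProduct_mulVec, hψ]
    exact dot_cc _ _
  have b2 : ∀ i, ∃ b : L7c.V, ∀ u, X'.wt (sr i) ⬝ᵥ u = B b (ψ u) := fun i =>
    let ⟨b, _, h⟩ := I.root _ (isRoot_sr X'.cs X'.h i)
    ⟨b, w1 _ b h⟩
  choose b hb using b2
  let φ : (X'.I → ℤ) →+ L7c.V := AddMonoidHom.mk' (fun a => ∑ i, a i • b i) fun x y => by
    simp only [Pi.add_apply, add_smul, Finset.sum_add_distrib]
  have w2 : ∀ a u, X'.wt a ⬝ᵥ u = B (φ a) (ψ u) := fun a u => by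
    conv_lhs => rw [pi_eq_sum_univ' a, map_sum, sum_dotProduct]
    refine Eq.trans (Finset.sum_congr rfl fun i _ => ?_) ((sum_dotProduct _ _ _).symm.trans (dot_cc _ _))
    rw [map_zsmul, smul_dotProduct, smul_dotProduct, dot_cc, ← hb]
    rfl
  have w3 : ∀ a' (a : L7c.V), X'.wt a' = X.D.wt a ᵥ* I.P → φ a' = a := fun a' a h => B_inj fun x => by
    obtain ⟨u, rfl⟩ := b1.2 x
    exact (w2 a' u).symm.trans (w1 a' a h u)
  refine ⟨⟨φ, AddEquiv.ofBijective _ b1, fun a ha => ?_, fun a ha => ?_, fun a ha => ?_, w2⟩⟩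
  · obtain ⟨a', h2, h3⟩ := I.root a ha
    exact w3 a a' h3 ▸ (R_iff _).2 ((X.rt_iff _).1 h2)
  · obtain ⟨a', h2, h3⟩ := I.root' a ((X.rt_iff _).2 ((R_iff _).1 ha))
    exact ⟨a', h2, w3 a' a h3⟩
  · obtain ⟨a', h2, h3⟩ := I.root a ha
    exact cc_inj ((hψ _).symm.trans ((I.cor ha h2 h3).trans ((cor_eq X K7.sl h2).trans ((co_eq _).trans
      (congrArg L7c.cc (w3 a a' h3).symm)))))

/-- **the row from the result for the family** -/
theorem boxRow : BoxRow := by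
  rintro hR M hM K _ _ hK ⟨F, _, _, ho, ⟨i⟩⟩ -
  obtain ⟨p, e, _, _, hp, he, hF⟩ := KM.Nt.exists_char F (l := 2) fun h => ho.not_two_dvd_nat (by
    have : Fact (Nat.Prime 2) := ⟨Nat.prime_two⟩
    have := (CharP.charP_iff_prime_eq_zero (R := F) Nat.prime_two).2 h
    exact (prime_dvd_char_iff_dvd_card 2).1 (by rw [ringChar.eq F 2]))
  obtain ⟨k, _, _, _, X, t, -, Y, _, N, _, _, ρ, F', X', θ, s, ⟨I⟩, -, -⟩ := KM.Sc.sc_E7 hF
  have := X'.amb.finite_GF ⊤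
  have := Fintype.ofFinite (GF F' ⊤)
  obtain ⟨C⟩ := exists_co X X' I s.pi1
  exact (hh_of_sc s (S2106.result hF) (KM.Sc.not_dvd_sub Fact.out he 2) hM
    (hR p hp.symm X' e 1 (st_of he s.qs (boxL7 p k e X Y N ρ F' X' θ I s.pi1).2) (adm_of C 1) M hM) K hK i).hf

end Cfsg.Agent.HZ.L.E7.Row
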